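import Groth.Agent.GrLib8.HDT.HomKill
import Groth.Agent.KFlatLib.Ring.DualizingFlat
import Groth.Agent.KFlatLib.Ring.DualizingRange
import Groth.Agent.KFlatLib.Ring.RgammaHDI
import Groth.Agent.S6942

/-!
# Local cohomology at a prime through maps over the ring
-/

set_option autoImplicit false
set_option linter.style.haveILetI false
set_option backward.isDefEq.respectTransparency false

universe u v

open CategoryTheory CategoryTheory.Limits Pretriangulated DerivedCategory IsLocalRing
open scoped TensorProduct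

attribute [local instance] HasDerivedCategory.standard

namespace Groth.Agent.GrLib8.HDT

open Groth.Agent.KFlatLib

variable {A : Type u} [CommRing A] (p : PrimeSpectrum A)

/-- A module with no localisation. -/
theorem forall_tmul_eq_zero {W : Type v} [AddCommGroup W] [Module A W]
    (h : ∀ φ : W, ∃ t ∉ p.asIdeal, t • φ = 0) (z : Localization.AtPrime p.asIdeal ⊗[A] W) : z = 0 := by
  induction z using TensorProduct.induction_on with
  | zero => rfl
  | add x y hx hy => rw [hx, hy, add_zero]
  | tmul c φ =>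
    obtain ⟨t, ht, hk⟩ := h φ
    obtain ⟨v, hv⟩ := IsLocalization.map_units (Localization.AtPrime p.asIdeal) (⟨t, ht⟩ : p.asIdeal.primeCompl)
    have h1 : c = t • ((v⁻¹ : (Localization.AtPrime p.asIdeal)ˣ) * c : Localization.AtPrime p.asIdeal) := by
      rw [Algebra.smul_def, ← hv, Units.mul_inv_cancel_left]
    rw [h1, TensorProduct.smul_tmul, hk, TensorProduct.tmul_zero]

/-- Conversely. -/
theorem exists_smul_eq_zero_of_tmul {W : Type v} [AddCommGroup W] [Module A W]
    (h : Subsingleton (Localization.AtPrime p.asIdeal ⊗[A] W)) (φ : W) : ∃ t ∉ p.asIdeal, t • φ = 0 := by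
  haveI := h
  have h0 : TensorProduct.mk A (Localization.AtPrime p.asIdeal) W 1 φ = 0 := Subsingleton.elim _ _
  obtain ⟨⟨t, ht⟩, htk⟩ := (IsLocalizedModule.eq_zero_iff p.asIdeal.primeCompl _).1 h0
  exact ⟨t, ht, htk⟩

/-- Localising a quotient by a power. -/
theorem nonempty_localized_quot (l : ℕ) :
    Nonempty (LocalizedModule p.asIdeal.primeCompl (A ⧸ p.asIdeal ^ l) ≃ₗ[Localization.AtPrime p.asIdeal]
      (Localization.AtPrime p.asIdeal ⧸ maximalIdeal (Localization.AtPrime p.asIdeal) ^ l)) :=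
  ⟨((LocalizedModule.equivTensorProduct p.asIdeal.primeCompl _).trans
    (Algebra.TensorProduct.quotIdealMapEquivTensorQuot (Localization.AtPrime p.asIdeal) (p.asIdeal ^ l)).toLinearEquiv.symm).trans
    (Submodule.quotEquivOfEq _ _ (by rw [Ideal.map_pow, Localization.AtPrime.map_eq_maximalIdeal]))⟩

variable [IsNoetherianRing A] [DRing.HasLBaseChange (algebraMap A (Localization.AtPrime p.asIdeal))]
  (K : Dual.D A) (a : ℤ) [K.IsGE a]

include a in
/-- Maps over the local ring are the localised maps. -/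
theorem exists_homLocalLEquiv (N : Type u) [AddCommGroup N] [Module A N] [Module.Finite A N] (i : ℤ) :
    Nonempty ((Dual.inD (Localization.AtPrime p.asIdeal) (LocalizedModule p.asIdeal.primeCompl N) ⟶
      ((DRing.LBaseChange (algebraMap A (Localization.AtPrime p.asIdeal))).obj K)⟦i⟧) ≃ₗ[Localization.AtPrime p.asIdeal]
        Localization.AtPrime p.asIdeal ⊗[A] (Dual.inD A N ⟶ K⟦i⟧)) := by
  let B := Localization.AtPrime p.asIdeal
  haveI : Module.Flat A B := IsLocalization.flat B p.asIdeal.primeCompl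
  haveI : DTen.HasLBase (algebraMap A B) := hasLBase _
  obtain ⟨eI⟩ := nonempty_LBase_inD_localized p.asIdeal N
  obtain ⟨e⟩ := exists_homBaseChangeLEquiv (B := B) (X := Dual.inD A N) (Y := K)
    ((Groth.Agent.S6942.result A 0 K N).2.2 inferInstance) a i
  obtain ⟨eK⟩ := nonempty_LBaseChange_iso (algebraMap A B)
  exact ⟨(Linear.homCongr B eI.symm ((shiftFunctor (Dual.D B) i).mapIso (eK.app K))).trans e⟩

omit [IsNoetherianRing A] in
theorem isGE_LBaseChange_loc :
    ((DRing.LBaseChange (algebraMap A (Localization.AtPrime p.asIdeal))).obj K).IsGE a := by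
  let B := Localization.AtPrime p.asIdeal
  haveI : Module.Flat A B := IsLocalization.flat B p.asIdeal.primeCompl
  haveI : DTen.HasLBase (algebraMap A B) := hasLBase _
  obtain ⟨eK⟩ := nonempty_LBaseChange_iso (algebraMap A B)
  haveI : ((DTen.LBase (algebraMap A B)).obj K).IsGE a := isGE_LBase_flat K a
  exact TStructure.t.isGE_of_iso (eK.app K).symm a

include a in
/-- Killed maps give vanishing local cohomology. -/
theorem subsingleton_HDI_of_kill (i : ℤ)
    (h : ∀ (l : ℕ) (φ : Dual.inD A (A ⧸ p.asIdeal ^ l) ⟶ K⟦i⟧), ∃ t ∉ p.asIdeal, t • φ = 0) :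
    Subsingleton (Dual2.HDI (Localization.AtPrime p.asIdeal) (maximalIdeal (Localization.AtPrime p.asIdeal))
      ((DRing.LBaseChange (algebraMap A (Localization.AtPrime p.asIdeal))).obj K) i) := by
  let B := Localization.AtPrime p.asIdeal
  haveI : IsNoetherianRing B := IsLocalization.isNoetherianRing p.asIdeal.primeCompl _ inferInstance
  refine subsingleton_of_forall_eq 0 fun w => ?_
  obtain ⟨l, u, rfl⟩ := RgammaHDI.exists_inc (maximalIdeal B) _ w
  obtain ⟨e⟩ := exists_homLocalLEquiv p K a (A ⧸ p.asIdeal ^ l) i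
  obtain ⟨eq⟩ := nonempty_localized_quot p l
  let σ : Dual.inD B (LocalizedModule p.asIdeal.primeCompl (A ⧸ p.asIdeal ^ l)) ≅
      (DerivedCategory.singleFunctor (ModuleCat.{u} B) 0).obj (RgammaHDI.qp (maximalIdeal B) l) :=
    (DerivedCategory.singleFunctor (ModuleCat.{u} B) 0).mapIso eq.toModuleIso
  have h0 : σ.hom ≫ u = 0 := e.injective ((forall_tmul_eq_zero p (h l) _).trans (map_zero e).symm)
  rw [show u = 0 from (cancel_epi σ.hom).1 (h0.trans comp_zero.symm), map_zero]

include a in
/-- Vanishing local cohomology gives killed maps. -/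
theorem exists_kill_of_subsingleton_HDI (s : ℤ)
    (h : ∀ i : ℤ, i ≤ s → Subsingleton (Dual2.HDI (Localization.AtPrime p.asIdeal)
      (maximalIdeal (Localization.AtPrime p.asIdeal))
      ((DRing.LBaseChange (algebraMap A (Localization.AtPrime p.asIdeal))).obj K) i))
    (i : ℤ) (hi : i ≤ s) (N : Type u) [AddCommGroup N] [Module A N] [Module.Finite A N]
    (hN : ∃ l : ℕ, ∀ x ∈ p.asIdeal ^ l, ∀ w : N, x • w = 0) (φ : Dual.inD A N ⟶ K⟦i⟧) :
    ∃ t ∉ p.asIdeal, t • φ = 0 := by
  let B := Localization.AtPrime p.asIdeal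
  let KB := (DRing.LBaseChange (algebraMap A B)).obj K
  haveI : IsNoetherianRing B := IsLocalization.isNoetherianRing p.asIdeal.primeCompl _ inferInstance
  haveI : KB.IsGE a := isGE_LBaseChange_loc p K a
  obtain ⟨e₀, he₀⟩ := exists_uniform_kill (fun 𝔟 : Ideal B => ∃ l : ℕ, maximalIdeal B ^ l ≤ 𝔟) ⊤ KB a s
    fun j hj x _ 𝔞 ⟨l, hl⟩ ψ => by
      haveI := h j hj
      obtain ⟨l', hll', h0⟩ := RgammaHDI.inc_eq_zero (maximalIdeal B) (KB⟦j⟧)
        (sI (Submodule.factor hl) ≫ (x • ψ)) (Subsingleton.elim (α := Dual2.HDI B (maximalIdeal B) KB j) _ _)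
      refine ⟨maximalIdeal B ^ l', (Ideal.pow_le_pow_right hll').trans hl, ⟨l', le_rfl⟩, ?_⟩
      rw [← h0, ← Category.assoc]
      congr 1
      rw [show (DerivedCategory.singleFunctor (ModuleCat.{u} B) 0).map (RgammaHDI.qpMap (maximalIdeal B) hll') ≫
          sI (Submodule.factor hl) = (DerivedCategory.singleFunctor (ModuleCat.{u} B) 0).map
            (RgammaHDI.qpMap (maximalIdeal B) hll' ≫ ModuleCat.ofHom (Submodule.factor hl)) from
        ((DerivedCategory.singleFunctor (ModuleCat.{u} B) 0).map_comp _ _).symm]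
      refine congrArg (DerivedCategory.singleFunctor (ModuleCat.{u} B) 0).map (ModuleCat.hom_ext (LinearMap.ext fun z => ?_))
      obtain ⟨z, rfl⟩ := Submodule.Quotient.mk_surjective _ z
      rfl
  obtain ⟨e⟩ := exists_homLocalLEquiv p K a N i
  obtain ⟨l, hl⟩ := hN
  haveI : Module.Finite B (LocalizedModule p.asIdeal.primeCompl N) :=
    Module.Finite.of_isLocalizedModule p.asIdeal.primeCompl (LocalizedModule.mkLinearMap _ N)
  have hK : Killed (fun 𝔟 : Ideal B => ∃ l : ℕ, maximalIdeal B ^ l ≤ 𝔟) (LocalizedModule p.asIdeal.primeCompl N) := by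
    refine ⟨maximalIdeal B ^ l, ⟨l, le_rfl⟩, fun b hb v => ?_⟩
    rw [← Localization.AtPrime.map_eq_maximalIdeal, ← Ideal.map_pow] at hb
    refine Submodule.span_induction (p := fun b _ => b • v = 0) ?_ (zero_smul B v)
      (fun x y _ _ hx hy => by rw [add_smul, hx, hy, add_zero])
      (fun r x _ hx => by rw [smul_eq_mul, mul_smul, hx, smul_zero]) hb
    rintro _ ⟨x, hx, rfl⟩
    rw [algebraMap_smul]
    induction v using LocalizedModule.induction_on with
    | h m t => rw [LocalizedModule.smul'_mk, hl x hx, LocalizedModule.zero_mk]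
  refine exists_smul_eq_zero_of_tmul p (subsingleton_of_forall_eq 0 fun z => ?_) φ
  obtain ⟨ψ, rfl⟩ := e.surjective z
  have h1 := he₀ i hi 1 (by rw [Ideal.top_pow]; trivial) _ hK ψ
  rw [one_smul] at h1
  rw [h1, map_zero]

end Groth.Agent.GrLib8.HDT
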