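import Groth.Agent.GrLib8.HDT.Finite

/-!
# Finiteness of local cohomology of complexes: the criterion
-/

set_option autoImplicit false

universe u

open CategoryTheory Limits Opposite Pretriangulated DerivedCategory
attribute [local instance] HasDerivedCategory.standard

namespace Groth.Agent.GrLib8.HDT

variable {A : Type u} [CommRing A] {T : Set (PrimeSpectrum A)}

/-- Vanishing in low degrees. -/
theorem subsingleton_HDT_of_lt (K : Dual.D A) (a : ℤ) (hKa : ∀ i : ℤ, i < a → Subsingleton (Dual.HD A K i))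
    (i : ℤ) (hi : i < a) : Subsingleton (Dual2.HDT A T K i) := by
  haveI : K.IsGE a := (isGE_iff K a).2 fun k hk =>
    haveI := hKa k hk; ModuleCat.isZero_of_subsingleton _
  haveI : (K⟦i⟧).IsGE (a - i) := TStructure.t.isGE_shift K a i (a - i) (by omega)
  exact subsingleton_of_isGE (T := T) (Y := K⟦i⟧) (a - i) (by omega)

theorem finite_iff_annihilated [IsNoetherianRing A] (K : Dual.D A) (a : ℤ)
    (hKa : ∀ i : ℤ, i < a → Subsingleton (Dual.HD A K i)) (hK : ∀ i : ℤ, Module.Finite A (Dual.HD A K i)) (n : ℤ) :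
    (∀ i : ℤ, i ≤ n → Module.Finite A (Dual2.HDT A T K i)) ↔
      ∃ J : Ideal A, PrimeSpectrum.zeroLocus (J : Set A) ⊆ T ∧
        ∀ i : ℤ, i ≤ n → ∀ x : A, x ∈ J → ∀ y : Dual2.HDT A T K i, x • y = 0 := by
  classical
  constructor
  · intro h
    have hJ : ∀ i : ℤ, ∃ J : Ideal A, PrimeSpectrum.zeroLocus (J : Set A) ⊆ T ∧
        (i ≤ n → ∀ x ∈ J, ∀ y : Dual2.HDT A T K i, x • y = 0) := by
      intro i
      by_cases hi : i ≤ n
      · haveI : Module.Finite A (H T (K⟦i⟧)) := h i hi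
        obtain ⟨J, hJ, hk⟩ := exists_kill_of_finite (T := T) (Y := K⟦i⟧)
        exact ⟨J, hJ, fun _ => hk⟩
      · exact ⟨⊤, by simp, fun hi' => absurd hi' hi⟩
    choose J hJT hJk using hJ
    refine ⟨∏ i ∈ Finset.Icc a n, J i, Finset.prod_induction _
      (fun J : Ideal A => PrimeSpectrum.zeroLocus (J : Set A) ⊆ T) (fun _ _ => HTLib.zeroLocus_mul_subset)
      (by simp) fun j _ => hJT j, fun i hi x hx y => ?_⟩
    by_cases hia : a ≤ i
    · exact hJk i hi x (Ideal.le_of_dvd (Finset.dvd_prod_of_mem J (Finset.mem_Icc.2 ⟨hia, hi⟩)) hx) y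
    · haveI := subsingleton_HDT_of_lt (T := T) K a hKa i (not_le.1 hia)
      exact Subsingleton.elim _ _
  · rintro ⟨J, hJ, hk⟩ i hi
    by_cases hia : a ≤ i
    swap
    · haveI := subsingleton_HDT_of_lt (T := T) K a hKa i (not_le.1 hia)
      infer_instance
    obtain ⟨m, hm⟩ : ∃ m : ℕ, i - a = (m : ℤ) := Int.eq_ofNat_of_zero_le (by omega)
    haveI : K.IsGE a := (isGE_iff K a).2 fun k hk' =>
      haveI := hKa k hk'; ModuleCat.isZero_of_subsingleton _
    haveI hge : (K⟦i⟧).IsGE (a - i) := TStructure.t.isGE_shift K a i (a - i) (by omega)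
    refine finite_H_of_kill (T := T) (m + 1) (K⟦i⟧) ?_ (fun k => ?_) J hJ fun l c hc z => ?_
    · rw [show (1 - ((m + 1 : ℕ) : ℤ)) = a - i by push_cast; omega]
      exact hge
    · haveI : Module.Finite A (((homologyFunctor (ModuleCat.{u} A) 0).shift (i + k)).obj K) := hK (i + k)
      exact Module.Finite.equiv
        (((homologyFunctor (ModuleCat.{u} A) 0).shiftIso i k (i + k) rfl).app K).toLinearEquiv.symm
    · let e : (K⟦i⟧)⟦(-l : ℤ)⟧ ≅ K⟦i - l⟧ := ((shiftFunctorAdd' (Dual.D A) i (-l : ℤ) (i - l) (by omega)).app K).symm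
      exact (Hiso e).injective (by rw [map_smul, map_zero]; exact hk (i - l) (by omega) c hc (Hiso e z))

end Groth.Agent.GrLib8.HDT
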