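import Groth.Agent.GrLib8.HDT.DualRange
import Groth.Agent.GrLib8.HDT.AtPrime
import Groth.Agent.GrLib8.HDT.Rows
import Groth.Agent.GrLib8.FaltingsDual.BaseChange
import Groth.Agent.KFlatLib.Ring.HasRHom

/-!
# The annihilator theorem for complexes
-/

set_option autoImplicit false
set_option linter.style.haveILetI false
set_option backward.isDefEq.respectTransparency false

universe u

open CategoryTheory CategoryTheory.Limits Pretriangulated DerivedCategory

attribute [local instance] HasDerivedCategory.standard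

namespace Groth.Agent.GrLib8.HDT

open Groth.Agent.KFlatLib
open HTLib (Idx idl idl_zeroLocus idl_le mkIdx qA)

variable {A : Type u} [CommRing A] [IsNoetherianRing A]

/-- Annihilators of local cohomology with supports and the vanishing at the primes. -/
theorem annihilated_iff_vanishing (hA : ∃ ω : Dual.D A, Dual.IsDualizing A ω) (T T' : Set (PrimeSpectrum A))
    (hT : StableUnderSpecialization T) (hT' : StableUnderSpecialization T') (s : ℤ) (K : Dual.D A) (a : ℤ)
    (hKa : ∀ i : ℤ, i < a → Subsingleton (Dual.HD A K i)) (hK : ∀ i : ℤ, Module.Finite A (Dual.HD A K i))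
    [∀ p : PrimeSpectrum A, DRing.HasLBaseChange (algebraMap A (Localization.AtPrime p.asIdeal))] :
    (∃ J : Ideal A, PrimeSpectrum.zeroLocus (J : Set A) ⊆ T' ∧
      ∀ i : ℤ, i ≤ s → ∀ a ∈ J, ∀ x : Dual2.HDT A T K i, a • x = 0) ↔
    (∀ (p q : PrimeSpectrum A) (hpq : p ≤ q), p ∉ T' → q ∈ T →
      ∀ h : ℕ, Order.height (⟨q, hpq⟩ : Set.Ici p) = h → ∀ i : ℤ, i ≤ s - h →
        Subsingleton (Dual2.HDI (Localization.AtPrime p.asIdeal)
          (IsLocalRing.maximalIdeal (Localization.AtPrime p.asIdeal))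
          ((DRing.LBaseChange (algebraMap A (Localization.AtPrime p.asIdeal))).obj K) i)) := by
  haveI := hasLTen (A := A)
  haveI := hasRHom (A := A)
  haveI : K.IsGE a := (isGE_iff K a).2 fun k hk => haveI := hKa k hk; ModuleCat.isZero_of_subsingleton _
  obtain ⟨ω, hω⟩ := hA
  obtain ⟨n, hn, hcov, hmono, -⟩ := exists_extDegree hω
  have hht : ∀ (p q : PrimeSpectrum A) (hpq : p ≤ q) (h : ℕ),
      Order.height (⟨q, hpq⟩ : Set.Ici p) = h ↔ n q = n p + h := by
    intro p q hpq h
    rw [FaltingsDual.height_eq_sub hmono hcov p q hpq, Nat.cast_inj]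
    have := hmono.monotone hpq
    omega
  constructor
  · rintro ⟨J, hJ, hk⟩ p q hpq hpT hqT h hh
    obtain ⟨e, he⟩ := exists_uniform_kill (fun 𝔞 : Ideal A => PrimeSpectrum.zeroLocus (𝔞 : Set A) ⊆ T) J K a s
      fun i hi x hx 𝔞 h𝔞 φ => by
        have h0 : ι (T := T) (K⟦i⟧) (mkIdx 𝔞 h𝔞) (x • φ) = 0 := (map_smul (ι (T := T) (K⟦i⟧) (mkIdx 𝔞 h𝔞)) x φ).trans (hk i hi x hx _)
        obtain ⟨K', c, hc⟩ := (ι_eq_zero_iff _).1 h0
        refine ⟨idl K', idl_le c, idl_zeroLocus K', ?_⟩
        have hq : qA c = ModuleCat.ofHom (Submodule.factor (idl_le c)) := by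
          refine ModuleCat.hom_ext (LinearMap.ext fun z => ?_)
          obtain ⟨z, rfl⟩ := Submodule.Quotient.mk_surjective _ z
          rfl
        rw [sa, hq] at hc
        exact hc
    obtain ⟨g, hgJ, hgp⟩ := SetLike.not_le_iff_exists.1 (fun hle => hpT (hJ hle) : ¬ J ≤ p.asIdeal)
    have hg : g ^ e ∉ p.asIdeal := fun hm => hgp (p.isPrime.mem_of_pow_mem _ hm)
    have hdual : ∀ c : ℤ, n q - s ≤ c → p ∉ Module.support A (Dual.HD A ((DTen.RHomR A K).obj ω) c) := by
      intro c hc
      rw [Module.notMem_support_iff']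
      intro w
      obtain ⟨t, ht, m, hm⟩ := exists_kill_dual hω hn hmono q (g ^ e) K a hK s (fun i hi N _ _ _ ⟨l, hl⟩ φ =>
        ⟨1, q.asIdeal.primeCompl.one_mem, by
          rw [one_mul]
          exact he i hi _ (Ideal.pow_mem_pow hgJ e) N ⟨q.asIdeal ^ l, fun r hr =>
            hT ((PrimeSpectrum.le_iff_specializes q r).1 (r.isPrime.le_of_pow_le hr)) hqT, hl⟩ φ⟩) c hc w
      exact ⟨t * (g ^ e) ^ m, p.asIdeal.primeCompl.mul_mem (fun htp => ht (hpq htp))
        (p.asIdeal.primeCompl.pow_mem hg m), hm⟩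
    have hn' := (hht p q hpq h).1 hh
    obtain ⟨J', hJ', hk'⟩ := exists_kill_of_range hω hn hmono {r | p ≤ r} {r | ¬ r ≤ p}
      (fun x y hxy hx hy => hx (((PrimeSpectrum.le_iff_specializes x y).2 hxy).trans hy)) K a hK (s - h)
      fun c Q hQ hQp r hr _ => by
        have hQp' : Q ≤ p := not_not.1 hQp
        have hc : c < n q - s := by
          by_contra hc
          exact hdual c (not_lt.1 hc) (Module.mem_support_mono hQp' hQ)
        have : n p ≤ n r := hmono.monotone hr
        omega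
    obtain ⟨t, htJ, htp⟩ := SetLike.not_le_iff_exists.1 (fun hle => hJ' hle le_rfl : ¬ J' ≤ p.asIdeal)
    exact fun i hi => subsingleton_HDI_of_kill p K a i fun l φ =>
      ⟨t, htp, hk' i hi t htJ _ (fun r hr => r.isPrime.le_of_pow_le hr) φ⟩
  · intro h
    obtain ⟨J, hJ, hk⟩ := exists_kill_of_range hω hn hmono T T' hT' K a hK s fun c Q hQ hQT q hq hQq => by
      by_contra hc
      have hle := hmono.monotone hQq
      have hh := (hht Q q hQq (n q - n Q).toNat).2 (by omega)
      refine (Module.notMem_support_iff'.2 fun w => ?_) hQ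
      obtain ⟨t, ht, m, hm⟩ := exists_kill_dual hω hn hmono Q 1 K a hK (s - ((n q - n Q).toNat : ℤ))
        (fun i hi N _ _ _ hN φ => by
          obtain ⟨t, ht, h0⟩ := exists_kill_of_subsingleton_HDI Q K a _ (h Q q hQq hQT hq _ hh) i hi N hN φ
          exact ⟨t, ht, by rw [mul_one]; exact h0⟩) c (by omega) w
      rw [one_pow, mul_one] at hm
      exact ⟨t, ht, hm⟩
    refine ⟨J, hJ, fun i hi x hx z => ?_⟩
    obtain ⟨K', φ, rfl⟩ := exists_ι (T := T) z
    rw [← map_smul, hk i hi x hx _ (idl_zeroLocus K') φ, map_zero]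

end Groth.Agent.GrLib8.HDT
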