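import Groth.Prelude.Def_DualLC
import Groth.Agent.GrLib8.HTLib
import Mathlib.Algebra.Homology.DerivedCategory.TStructure
import Mathlib.Algebra.Homology.DerivedCategory.FullyFaithful
import Mathlib.Algebra.Homology.DerivedCategory.Linear

/-!
# Local cohomology of complexes with supports in a specialization stable subset
-/

set_option autoImplicit false

universe u

open CategoryTheory Limits Opposite Pretriangulated
attribute [local instance] HasDerivedCategory.standard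

namespace Groth.Agent.GrLib8.HDT

open HTLib (Idx idl idl_zeroLocus mkIdx mkArr qO qA)

variable {A : Type u} [CommRing A] (T : Set (PrimeSpectrum A))

/-- The functor `Hom(A/J, Y)`. -/
noncomputable abbrev fct (Y : Dual.D A) : Idx T ⥤ ModuleCat.{u + 1} A :=
  (localCohomology.ringModIdeals (Dual2.idealsInDiagram T) ⋙
      DerivedCategory.singleFunctor (ModuleCat.{u} A) 0).op ⋙ (linearYoneda A (Dual.D A)).obj Y

/-- The colimit of `Hom(A/J, Y)`. -/
noncomputable abbrev H (Y : Dual.D A) : ModuleCat.{u + 1} A := colimit (fct T Y)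

example (K : Dual.D A) (i : ℤ) : Dual2.HDT A T K i = H T (K⟦i⟧) := rfl

variable {T}

instance : PreservesFilteredColimitsOfSize.{u, u} (forget (ModuleCat.{u + 1} A)) :=
  haveI : HasColimitsOfSize.{u + 1, u + 1} AddCommGrpCat.{u + 1} := inferInstance
  haveI : PreservesColimitsOfSize.{u + 1, u + 1} (forget₂ (ModuleCat.{u + 1} A) AddCommGrpCat.{u + 1}) :=
    ModuleCat.forget₂PreservesColimitsOfSize A
  haveI : PreservesFilteredColimitsOfSize.{u + 1, u + 1} (forget AddCommGrpCat.{u + 1}) := inferInstance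
  haveI : PreservesFilteredColimitsOfSize.{u + 1, u + 1} (forget₂ (ModuleCat.{u + 1} A) AddCommGrpCat.{u + 1}) :=
    ⟨fun _ _ _ => inferInstance⟩
  haveI : PreservesFilteredColimitsOfSize.{u + 1, u + 1} (forget (ModuleCat.{u + 1} A)) :=
    show PreservesFilteredColimitsOfSize.{u + 1, u + 1}
      (forget₂ (ModuleCat.{u + 1} A) AddCommGrpCat.{u + 1} ⋙ forget AddCommGrpCat.{u + 1}) from inferInstance
  preservesFilteredColimitsOfSize_of_univLE.{u + 1, u + 1} _

/-- `A/J` in degree zero. -/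
noncomputable abbrev sq (K : Idx T) : Dual.D A := (DerivedCategory.singleFunctor (ModuleCat.{u} A) 0).obj (qO K)

/-- The projection in the derived category. -/
noncomputable def sa {K K' : Idx T} (a : K ⟶ K') : sq K' ⟶ sq K :=
  (DerivedCategory.singleFunctor (ModuleCat.{u} A) 0).map (qA a)

/-- The structure map. -/
noncomputable def ι (Y : Dual.D A) (K : Idx T) : (sq K ⟶ Y) →ₗ[A] H T Y := (colimit.ι (fct T Y) K).hom

theorem ι_sa {Y : Dual.D A} {K K' : Idx T} (a : K ⟶ K') (x : sq K ⟶ Y) : ι Y K' (sa a ≫ x) = ι Y K x :=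
  ConcreteCategory.congr_hom (colimit.w (fct T Y) a) x

theorem exists_ι {Y : Dual.D A} (z : H T Y) : ∃ (K : Idx T) (x : sq K ⟶ Y), ι Y K x = z := by
  obtain ⟨K, w, hw⟩ := Concrete.isColimit_exists_rep _ (colimit.isColimit (fct T Y)) z
  exact ⟨K, w, hw⟩

theorem ι_eq_zero_iff {Y : Dual.D A} {K : Idx T} (x : sq K ⟶ Y) :
    ι Y K x = 0 ↔ ∃ (K' : Idx T) (a : K ⟶ K'), sa a ≫ x = 0 := by
  refine ⟨fun hx => ?_, fun ⟨K', a, h⟩ => by rw [← ι_sa a, h, map_zero]⟩
  obtain ⟨K', f, g, hk⟩ := Concrete.isColimit_exists_of_rep_eq _ (colimit.isColimit (fct T Y))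
    (i := K) (j := K) (show (fct T Y).obj K from x) (show (fct T Y).obj K from (0 : sq K ⟶ Y))
    ((show ι Y K x = _ from hx).trans (map_zero (ι Y K)).symm)
  exact ⟨K', f, hk.trans (map_zero _)⟩

/-- The induced map. -/
noncomputable def Hm {Y Z : Dual.D A} (g : Y ⟶ Z) : H T Y →ₗ[A] H T Z :=
  (colimMap (Functor.whiskerLeft (localCohomology.ringModIdeals (Dual2.idealsInDiagram T) ⋙
      DerivedCategory.singleFunctor (ModuleCat.{u} A) 0).op ((linearYoneda A (Dual.D A)).map g))).hom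

theorem Hm_ι {Y Z : Dual.D A} (g : Y ⟶ Z) {K : Idx T} (x : sq K ⟶ Y) : Hm g (ι Y K x) = ι Z K (x ≫ g) :=
  ConcreteCategory.congr_hom (ι_colimMap (Functor.whiskerLeft (localCohomology.ringModIdeals (Dual2.idealsInDiagram T) ⋙
      DerivedCategory.singleFunctor (ModuleCat.{u} A) 0).op ((linearYoneda A (Dual.D A)).map g)) K) x

theorem Hm_comp {Y Z W : Dual.D A} (g : Y ⟶ Z) (h : Z ⟶ W) (z : H T Y) : Hm h (Hm g z) = Hm (g ≫ h) z := by
  obtain ⟨K, x, rfl⟩ := exists_ι z
  rw [Hm_ι, Hm_ι, Hm_ι, Category.assoc]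

theorem Hm_smul_id {Y : Dual.D A} (a : A) (z : H T Y) : Hm (a • 𝟙 Y) z = a • z := by
  obtain ⟨K, x, rfl⟩ := exists_ι z
  rw [Hm_ι, Linear.comp_smul, Category.comp_id, map_smul]

/-- An isomorphism gives an equivalence. -/
noncomputable def Hiso {Y Z : Dual.D A} (e : Y ≅ Z) : H T Y ≃ₗ[A] H T Z :=
  LinearEquiv.ofLinear (Hm e.hom) (Hm e.inv)
    (LinearMap.ext fun z => by
      rw [LinearMap.comp_apply, Hm_comp, e.inv_hom_id, LinearMap.id_apply]
      obtain ⟨K, x, rfl⟩ := exists_ι z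
      rw [Hm_ι, Category.comp_id])
    (LinearMap.ext fun z => by
      rw [LinearMap.comp_apply, Hm_comp, e.hom_inv_id, LinearMap.id_apply]
      obtain ⟨K, x, rfl⟩ := exists_ι z
      rw [Hm_ι, Category.comp_id])

theorem exists_of_Hm_eq_zero {P : Triangle (Dual.D A)} (hP : P ∈ distTriang (Dual.D A)) (z : H T P.obj₂)
    (hz : Hm P.mor₂ z = 0) : ∃ w : H T P.obj₁, Hm P.mor₁ w = z := by
  obtain ⟨K, x, rfl⟩ := exists_ι z
  rw [Hm_ι, ι_eq_zero_iff] at hz
  obtain ⟨K', a, ha⟩ := hz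
  rw [← Category.assoc] at ha
  obtain ⟨y, hy⟩ := Triangle.coyoneda_exact₂ P hP (sa a ≫ x) ha
  exact ⟨ι P.obj₁ K' y, by rw [Hm_ι, ← hy, ι_sa]⟩

theorem Hm_mor₁₂ {P : Triangle (Dual.D A)} (hP : P ∈ distTriang (Dual.D A)) (z : H T P.obj₁) :
    Hm P.mor₂ (Hm P.mor₁ z) = 0 := by
  obtain ⟨K, x, rfl⟩ := exists_ι z
  rw [Hm_ι, Hm_ι, Category.assoc, comp_distTriang_mor_zero₁₂ _ hP, comp_zero, map_zero]

/-- Killing passes to the middle term. -/
theorem kill_mid {P : Triangle (Dual.D A)} (hP : P ∈ distTriang (Dual.D A)) {a b : A}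
    (ha : ∀ z : H T P.obj₁, a • z = 0) (hb : ∀ z : H T P.obj₃, b • z = 0) (z : H T P.obj₂) :
    (a * b) • z = 0 := by
  obtain ⟨w, hw⟩ := exists_of_Hm_eq_zero hP (b • z) (by rw [map_smul, hb])
  rw [mul_smul, ← hw, ← map_smul, ha, map_zero]

theorem kill_mid_ideal {P : Triangle (Dual.D A)} (hP : P ∈ distTriang (Dual.D A)) {I J : Ideal A}
    (ha : ∀ a ∈ I, ∀ z : H T P.obj₁, a • z = 0) (hb : ∀ b ∈ J, ∀ z : H T P.obj₃, b • z = 0)
    {c : A} (hc : c ∈ I * J) (z : H T P.obj₂) : c • z = 0 :=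
  Submodule.mul_induction_on hc (fun a ha' b hb' => kill_mid hP (ha a ha') (hb b hb') z)
    fun x y hx hy => by rw [add_smul, hx, hy, add_zero]

/-- Finiteness passes to the middle term. -/
theorem finite_mid [IsNoetherianRing A] {P : Triangle (Dual.D A)} (hP : P ∈ distTriang (Dual.D A))
    (h1 : Module.Finite A (H T P.obj₁)) (h3 : Module.Finite A (H T P.obj₃)) : Module.Finite A (H T P.obj₂) := by
  refine ⟨Submodule.fg_of_fg_map_of_fg_inf_ker (Hm P.mor₂) (IsNoetherian.noetherian _) ?_⟩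
  rw [top_inf_eq]
  have : LinearMap.ker (Hm (T := T) P.mor₂) = LinearMap.range (Hm (T := T) P.mor₁) :=
    le_antisymm (fun z hz => exists_of_Hm_eq_zero hP z hz) (by rintro _ ⟨w, rfl⟩; exact Hm_mor₁₂ hP w)
  rw [this, LinearMap.range_eq_map]
  exact h1.fg_top.map (Hm P.mor₁)

theorem kill_of_id {Y : Dual.D A} {a : A} (h : a • 𝟙 Y = 0) (z : H T Y) : a • z = 0 := by
  obtain ⟨K, x, rfl⟩ := exists_ι z
  rw [← map_smul, ← Category.comp_id x, ← Linear.comp_smul, h, comp_zero, map_zero]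

theorem sq_smul_id {K : Idx T} {a : A} (ha : a ∈ idl K) : a • 𝟙 (sq K) = 0 := by
  have h : a • 𝟙 (qO K) = 0 := by
    refine ModuleCat.hom_ext (LinearMap.ext fun z => ?_)
    obtain ⟨r, rfl⟩ := Submodule.Quotient.mk_surjective _ z
    show a • (Submodule.Quotient.mk r : A ⧸ idl K) = 0
    rw [← Submodule.Quotient.mk_smul, Submodule.Quotient.mk_eq_zero]
    exact Ideal.mul_mem_right r _ ha
  rw [← (DerivedCategory.singleFunctor (ModuleCat.{u} A) 0).map_id, ← Functor.map_smul, h, Functor.map_zero]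

theorem isKilled {Y : Dual.D A} (z : H T Y) :
    ∃ J : Ideal A, PrimeSpectrum.zeroLocus (J : Set A) ⊆ T ∧ ∀ a ∈ J, a • z = 0 := by
  obtain ⟨K, x, rfl⟩ := exists_ι z
  refine ⟨idl K, idl_zeroLocus K, fun a ha => ?_⟩
  rw [← map_smul, ← Category.id_comp x, ← Linear.smul_comp, sq_smul_id ha, zero_comp, map_zero]

theorem exists_kill_of_finite {Y : Dual.D A} [Module.Finite A (H T Y)] :
    ∃ J : Ideal A, PrimeSpectrum.zeroLocus (J : Set A) ⊆ T ∧ ∀ a ∈ J, ∀ z : H T Y, a • z = 0 := by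
  classical
  obtain ⟨k, f, hf⟩ := Module.Finite.exists_fin (R := A) (M := H T Y)
  choose J hJ hk using fun j => isKilled (f j)
  refine ⟨∏ j, J j, Finset.prod_induction _ (fun J : Ideal A => PrimeSpectrum.zeroLocus (J : Set A) ⊆ T)
    (fun _ _ => HTLib.zeroLocus_mul_subset) (by simp) fun j _ => hJ j, fun a ha z => ?_⟩
  have hz : z ∈ (⊤ : Submodule A (H T Y)) := trivial
  rw [← hf] at hz
  induction hz using Submodule.span_induction with
  | mem z hz =>
    obtain ⟨j, rfl⟩ := hz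
    exact hk j a (Ideal.le_of_dvd (Finset.dvd_prod_of_mem J (Finset.mem_univ j)) ha)
  | zero => rw [smul_zero]
  | add x y _ _ hx hy => rw [smul_add, hx, hy, add_zero]
  | smul r y _ hy => rw [smul_comm, hy, smul_zero]

theorem subsingleton_of_isGE {Y : Dual.D A} (n : ℤ) (hn : 0 < n) [Y.IsGE n] : Subsingleton (H T Y) := by
  refine subsingleton_of_forall_eq 0 fun z => ?_
  obtain ⟨K, x, rfl⟩ := exists_ι z
  rw [DerivedCategory.TStructure.t.zero x 0 n hn, map_zero]

/-- Local cohomology of a single module killed by an ideal of the family. -/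
theorem finite_single [IsNoetherianRing A] (G : ModuleCat.{u} A) [Module.Finite A G] (J : Ideal A)
    (hJ : PrimeSpectrum.zeroLocus (J : Set A) ⊆ T) (hG : ∀ a ∈ J, ∀ z : G, a • z = 0) (m : ℕ) :
    Module.Finite A (H T (((DerivedCategory.singleFunctor (ModuleCat.{u} A) 0).obj G)⟦(m : ℤ)⟧)) := by
  let F := DerivedCategory.singleFunctor (ModuleCat.{u} A) 0
  rcases m with _ | n
  · let e : (F.obj G)⟦((0 : ℕ) : ℤ)⟧ ≅ F.obj G :=
      (shiftFunctorZero' (Dual.D A) ((0 : ℕ) : ℤ) Nat.cast_zero).app _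
    suffices Module.Finite A (H T (F.obj G)) from Module.Finite.equiv (Hiso e).symm
    haveI : IsNoetherian A G := inferInstance
    let ev : (ModuleCat.of A (A ⧸ J) ⟶ G) →ₗ[A] G :=
      { toFun := fun g => g.hom (Ideal.Quotient.mk J 1)
        map_add' := fun _ _ => rfl
        map_smul' := fun _ _ => rfl }
    haveI : Module.Finite A (ModuleCat.of A (A ⧸ J) ⟶ G) := Module.Finite.of_injective ev fun g g' h => by
      refine ModuleCat.hom_ext (LinearMap.ext fun z => ?_)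
      obtain ⟨r, rfl⟩ := Submodule.Quotient.mk_surjective _ z
      have hr : (Submodule.Quotient.mk r : A ⧸ J) = r • (Ideal.Quotient.mk J 1) := by
        rw [← Ideal.Quotient.mk_eq_mk, ← Submodule.Quotient.mk_smul, smul_eq_mul, mul_one]
      rw [hr, map_smul, map_smul]
      exact congrArg _ h
    refine Module.Finite.of_surjective ((ι (F.obj G) (mkIdx J hJ)) ∘ₗ
      F.mapLinearMap A (X := ModuleCat.of A (A ⧸ J)) (Y := G)) fun z => ?_
    obtain ⟨K, x, rfl⟩ := exists_ι z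
    obtain ⟨g, rfl⟩ := F.map_surjective x
    let t : G := g.hom (Submodule.Quotient.mk 1)
    let g₀ : ModuleCat.of A (A ⧸ J) ⟶ G :=
      ModuleCat.ofHom (Submodule.liftQ J (LinearMap.toSpanSingleton A G t) fun a ha => hG a ha t)
    refine ⟨g₀, ?_⟩
    let K₁ : Idx T := mkIdx (idl K * J) (HTLib.zeroLocus_mul_subset (idl_zeroLocus K) hJ)
    let a₁ : K ⟶ K₁ := mkArr Ideal.mul_le_left
    let a₂ : mkIdx J hJ ⟶ K₁ := mkArr Ideal.mul_le_right
    show ι (F.obj G) (mkIdx J hJ) (F.map g₀) = ι (F.obj G) K (F.map g)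
    rw [← ι_sa a₁ (F.map g), ← ι_sa a₂ (F.map g₀)]
    show ι _ K₁ (F.map (qA a₂) ≫ F.map g₀) = ι _ K₁ (F.map (qA a₁) ≫ F.map g)
    rw [← F.map_comp, ← F.map_comp]
    congr 2
    refine ModuleCat.hom_ext (LinearMap.ext fun z => ?_)
    obtain ⟨r, rfl⟩ := Submodule.Quotient.mk_surjective _ z
    show r • t = g.hom (Submodule.Quotient.mk r : A ⧸ idl K)
    rw [← map_smul g.hom, ← Submodule.Quotient.mk_smul, smul_eq_mul, mul_one]
  · haveI : Subsingleton (H T ((F.obj G)⟦((n + 1 : ℕ) : ℤ)⟧)) := subsingleton_of_forall_eq 0 fun z => by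
      obtain ⟨K, x, rfl⟩ := exists_ι z
      let e := Abelian.Ext.homEquiv (X := qO K) (Y := G) (n := n + 1)
      obtain ⟨K', a, ha⟩ := HTLib.exists_rs_eq_zero_of_killed n G J hJ hG (e.symm x)
      rw [ι_eq_zero_iff]
      refine ⟨K', a, ?_⟩
      have h1 : ((Abelian.Ext.mk₀ (qA a)).comp (e.symm x) (zero_add (n + 1))).hom = (0 : Abelian.Ext (qO K') G (n + 1)).hom :=
        congrArg Abelian.Ext.hom ha
      rw [Abelian.Ext.comp_hom, Abelian.Ext.mk₀_hom, ShiftedHom.mk₀_comp, Abelian.Ext.zero_hom] at h1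
      rw [show (e.symm x).hom = x from e.apply_symm_apply x] at h1
      exact h1
    infer_instance

end Groth.Agent.GrLib8.HDT
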