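import Groth.Agent.GrLib8.HDT.Basic
import Groth.Agent.Alg6.AssDepth

/-!
# Finiteness of local cohomology of complexes from annihilation
-/

set_option autoImplicit false

universe u

open CategoryTheory Limits Opposite Pretriangulated DerivedCategory
attribute [local instance] HasDerivedCategory.standard

namespace Groth.Agent.GrLib8.HDT

variable {A : Type u} [CommRing A] {T : Set (PrimeSpectrum A)}

theorem cxHomologyMap_smul_id (K : CochainComplex (ModuleCat.{u} A) ℤ) (a : A) (k : ℤ) :
    HomologicalComplex.homologyMap (a • 𝟙 K) k = a • 𝟙 (K.homology k) := by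
  show ShortComplex.homologyMap
    ((HomologicalComplex.shortComplexFunctor (ModuleCat.{u} A) (ComplexShape.up ℤ) k).map (a • 𝟙 K)) = _
  rw [show (HomologicalComplex.shortComplexFunctor (ModuleCat.{u} A) (ComplexShape.up ℤ) k).map (a • 𝟙 K) =
    a • 𝟙 (K.sc k) from rfl, ShortComplex.homologyMap_smul, ShortComplex.homologyMap_id]
  rfl

/-- The homology functors are linear on multiplication maps. -/
theorem homologyMap_smul_id (Y : Dual.D A) (a : A) (k : ℤ) (y : (homologyFunctor (ModuleCat.{u} A) k).obj Y) :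
    ((homologyFunctor (ModuleCat.{u} A) k).map (a • 𝟙 Y)).hom y = a • y := by
  let F := homologyFunctor (ModuleCat.{u} A) k
  let K := (DerivedCategory.Q (C := ModuleCat.{u} A)).objPreimage Y
  let e : (DerivedCategory.Q (C := ModuleCat.{u} A)).obj K ≅ Y :=
    (DerivedCategory.Q (C := ModuleCat.{u} A)).objObjPreimageIso Y
  let η := homologyFunctorFactors (ModuleCat.{u} A) k
  have hQ : F.map (a • 𝟙 ((DerivedCategory.Q (C := ModuleCat.{u} A)).obj K)) = a • 𝟙 _ := by
    haveI hlin : Functor.Linear A (DerivedCategory.Q (C := ModuleCat.{u} A)) := inferInstance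
    have h1 : (DerivedCategory.Q (C := ModuleCat.{u} A)).map (a • 𝟙 K) = a • 𝟙 _ :=
      (Functor.Linear.map_smul (R := A) (F := DerivedCategory.Q (C := ModuleCat.{u} A)) (𝟙 K) a).trans
        (congrArg (fun g => a • g) ((DerivedCategory.Q (C := ModuleCat.{u} A)).map_id K))
    rw [← h1]
    refine (Iso.cancel_iso_hom_right _ _ (η.app K)).1 ((η.hom.naturality (a • 𝟙 K)).trans ?_)
    show η.hom.app K ≫ HomologicalComplex.homologyMap (a • 𝟙 K) k = _
    rw [cxHomologyMap_smul_id]
    refine (Linear.comp_smul (R := A) _ _ _ _ a _).trans ?_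
    refine Eq.trans ?_ (Linear.smul_comp (R := A) _ _ _ a _ _).symm
    exact congrArg (fun g => a • g) ((Category.comp_id _).trans (Category.id_comp _).symm)
  have hY : F.map (a • 𝟙 Y) = a • 𝟙 _ := by
    rw [show a • 𝟙 Y = e.inv ≫ (a • 𝟙 _) ≫ e.hom by
      rw [Linear.smul_comp, Category.id_comp, Linear.comp_smul, e.inv_hom_id], Functor.map_comp, Functor.map_comp, hQ,
      Linear.smul_comp, Category.id_comp, Linear.comp_smul, ← F.map_comp, e.inv_hom_id, F.map_id]
  show (F.map (a • 𝟙 Y)).hom y = a • y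
  rw [hY]
  rfl

theorem smul_id_map {Y : Dual.D A} {a : A} (h : a • 𝟙 Y = 0) (n : ℤ) : a • 𝟙 (Y⟦n⟧) = 0 := by
  rw [← (shiftFunctor (Dual.D A) n).map_id, ← Functor.map_smul, h, Functor.map_zero]

theorem smul_id_of_iso {Y Z : Dual.D A} (e : Y ≅ Z) {a : A} (h : a • 𝟙 Y = 0) : a • 𝟙 Z = 0 := by
  rw [← e.inv_hom_id, ← Category.comp_id e.inv, Category.assoc, ← Linear.comp_smul,
    ← Category.id_comp e.hom, ← Linear.smul_comp, h, zero_comp, comp_zero]

/-- Multiplication by an element as a map with a fibre. -/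
theorem finite_H_of_kill [IsNoetherianRing A] : ∀ (m : ℕ) (Y : Dual.D A), Y.IsGE (1 - m : ℤ) →
    (∀ k : ℤ, Module.Finite A ((homologyFunctor (ModuleCat.{u} A) k).obj Y)) → ∀ J : Ideal A,
    PrimeSpectrum.zeroLocus (J : Set A) ⊆ T →
    (∀ l : ℕ, ∀ a ∈ J, ∀ z : H T (Y⟦(-l : ℤ)⟧), a • z = 0) → Module.Finite A (H T Y) := by
  intro m
  induction m with
  | zero =>
    intro Y hY _ J _ _
    haveI := hY
    haveI := subsingleton_of_isGE (T := T) (Y := Y) (1 - ((0 : ℕ) : ℤ)) (by simp)
    infer_instance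
  | succ m ih =>
    intro Y hY hfin J hJ hk
    classical
    let t := TStructure.t (C := ModuleCat.{u} A)
    let F : ℤ → Dual.D A ⥤ ModuleCat.{u} A := fun k => homologyFunctor (ModuleCat.{u} A) k
    obtain ⟨q, hq⟩ : ∃ q : ℤ, q = -(m : ℤ) := ⟨_, rfl⟩
    haveI : Y.IsGE q := by rw [show q = 1 - ((m + 1 : ℕ) : ℤ) by omega]; exact hY
    haveI := hfin q
    let N : ModuleCat.{u} A := (F q).obj Y
    haveI : IsNoetherian A N := isNoetherian_of_isNoetherianRing_of_finite A N
    -- the torsion part of the lowest homology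
    let G : Submodule A N :=
      { carrier := {x | ∃ K : Ideal A, PrimeSpectrum.zeroLocus (K : Set A) ⊆ T ∧ ∀ a ∈ K, a • x = 0}
        zero_mem' := ⟨⊤, by simp, fun a _ => smul_zero a⟩
        add_mem' := fun ⟨K, hK, h⟩ ⟨K', hK', h'⟩ => ⟨K * K', HTLib.zeroLocus_mul_subset hK hK', fun a ha => by
          rw [smul_add, h a (Ideal.mul_le_left ha), h' a (Ideal.mul_le_right ha), add_zero]⟩
        smul_mem' := fun c _ ⟨K, hK, h⟩ => ⟨K, hK, fun a ha => by rw [smul_comm, h a ha, smul_zero]⟩ }
    haveI : Module.Finite A G := Module.Finite.iff_fg.2 (IsNoetherian.noetherian G)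
    obtain ⟨K0, hK0, hkill⟩ := HTLib.exists_kill_of_finite (T := T) (H := G) fun z => by
      obtain ⟨K, hK, h⟩ := z.2
      exact ⟨K, hK, fun a ha => Subtype.ext (h a ha)⟩
    have htf : ∀ y : N ⧸ G, (∃ K : Ideal A, PrimeSpectrum.zeroLocus (K : Set A) ⊆ T ∧ ∀ a ∈ K, a • y = 0) → y = 0 := by
      rintro y ⟨K, hK, hy⟩
      obtain ⟨x, rfl⟩ := Submodule.Quotient.mk_surjective G y
      refine (Submodule.Quotient.mk_eq_zero G).2 ⟨K0 * K, HTLib.zeroLocus_mul_subset hK0 hK, fun a ha => ?_⟩
      refine Submodule.mul_induction_on ha (fun b hb c hc => ?_) fun u v hu hv => by rw [add_smul, hu, hv, add_zero]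
      have h1 := hy c hc
      rw [← Submodule.Quotient.mk_smul, Submodule.Quotient.mk_eq_zero] at h1
      rw [mul_smul]
      exact congrArg Subtype.val (hkill b hb ⟨_, h1⟩)
    obtain ⟨f, hf, hreg⟩ : ∃ f ∈ J, IsSMulRegular (N ⧸ G) f := by
      rw [Groth.Agent.Alg6.exists_isSMulRegular_mem_iff]
      intro p hp hle
      obtain ⟨hpp, z, hz⟩ := Groth.Agent.Alg6.mem_ass_iff.1 hp
      have hz0 : z = 0 := htf z ⟨J, hJ, fun a ha => (hz a).1 (hle ha)⟩
      exact hpp.ne_top ((Ideal.eq_top_iff_one p).2 ((hz 1).2 (by rw [hz0, smul_zero])))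
    -- the fibre of multiplication
    obtain ⟨C, ι₁, δ₁, htri⟩ := distinguished_cocone_triangle₁ (f • 𝟙 Y)
    let P := Triangle.mk ι₁ (f • 𝟙 Y) δ₁
    have hP : P ∈ distTriang (Dual.D A) := htri
    have hge : ∀ {k : ℤ}, k < q → IsZero ((F k).obj Y) := fun {k} hk' => isZero_of_isGE Y q k hk'
    have hinjC : ∀ k : ℤ, k ≤ q → Function.Injective ((F k).map ι₁).hom := fun k hk' =>
      (ModuleCat.mono_iff_injective _).1 ((HomologySequence.mono_homologyMap_mor₁_iff P hP (k - 1) k (by omega)).2
        ((hge (show k - 1 < q by omega)).eq_of_src _ _))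
    haveI hCge : C.IsGE q := (isGE_iff C q).2 fun k hk' => by
      haveI : Subsingleton ((F k).obj Y) := ModuleCat.subsingleton_of_isZero (hge hk')
      exact @ModuleCat.isZero_of_subsingleton _ _ _ (hinjC k hk'.le).subsingleton
    have hCfin : ∀ k : ℤ, Module.Finite A ((F k).obj C) := by
      intro k
      haveI := hfin k
      haveI := hfin (k - 1)
      haveI : IsNoetherian A ((F k).obj Y) := isNoetherian_of_isNoetherianRing_of_finite A _
      have hex := (ShortComplex.ShortExact.moduleCat_exact_iff_function_exact _).1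
        (HomologySequence.exact₁ P hP (k - 1) k (by omega))
      refine ⟨Submodule.fg_of_fg_map_of_fg_inf_ker ((F k).map ι₁).hom (IsNoetherian.noetherian _) ?_⟩
      rw [top_inf_eq]
      have hk0 := LinearMap.exact_iff.1 hex
      refine Eq.subst (motive := fun S : Submodule A ((F k).obj C) => S.FG) hk0.symm ?_
      rw [LinearMap.range_eq_map]
      exact (hfin (k - 1)).fg_top.map _
    have hCk : ∀ l : ℕ, ∀ c ∈ J * J, ∀ z : H T (C⟦(-l : ℤ)⟧), c • z = 0 := by
      intro l c hc z
      let P' := (Triangle.shiftFunctor (Dual.D A) (-l : ℤ)).obj P.invRotate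
      have hP' : P' ∈ distTriang (Dual.D A) := Triangle.shift_distinguished _ (inv_rot_of_distTriang _ hP) _
      let e : P'.obj₁ ≅ Y⟦(-(l + 1 : ℕ) : ℤ)⟧ :=
        ((shiftFunctorAdd' (Dual.D A) (-1 : ℤ) (-l : ℤ) (-(l + 1 : ℕ) : ℤ) (by omega)).app Y).symm
      refine kill_mid_ideal (T := T) hP' (fun a ha z => ?_) (hk l) hc z
      exact (Hiso e).injective (by rw [map_smul, hk (l + 1) a ha, map_zero])
    have hCY : Module.Finite A (H T C) → Module.Finite A (H T Y) := fun hC =>
      Module.Finite.of_surjective (Hm ι₁) fun z =>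
        exists_of_Hm_eq_zero hP z (show Hm (f • 𝟙 Y) z = 0 by
          rw [Hm_smul_id]
          have e : Y⟦(-((0 : ℕ) : ℤ))⟧ ≅ Y := (shiftFunctorZero' (Dual.D A) _ (by simp)).app Y
          exact (Hiso e).symm.injective (by rw [map_smul, hk 0 f hf, map_zero]))
    refine hCY ?_
    -- remove the lowest homology
    obtain ⟨X₁, X₃, hX₁, hX₃, j, π, δ₂, htr⟩ := t.exists_triangle C q (q + 1) rfl
    let R := Triangle.mk j π δ₂
    have hR : R ∈ distTriang (Dual.D A) := htr
    haveI : X₁.IsLE q := ⟨hX₁⟩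
    haveI h3ge : X₃.IsGE (q + 1) := ⟨hX₃⟩
    have hinjX : ∀ k : ℤ, k ≤ q + 1 → Function.Injective ((F k).map j).hom := fun k hk' =>
      (ModuleCat.mono_iff_injective _).1 ((HomologySequence.mono_homologyMap_mor₁_iff R hR (k - 1) k (by omega)).2
        ((isZero_of_isGE X₃ (q + 1) (k - 1) (by omega)).eq_of_src _ _))
    haveI : X₁.IsGE q := (isGE_iff X₁ q).2 fun k hk' => by
      haveI : Subsingleton ((F k).obj C) := ModuleCat.subsingleton_of_isZero (isZero_of_isGE C q k hk')
      exact @ModuleCat.isZero_of_subsingleton _ _ _ (hinjX k (by omega)).subsingleton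
    obtain ⟨M, ⟨eX⟩⟩ := exists_iso_singleFunctor_obj_of_isGE_of_isLE X₁ q
    let eM : (F q).obj X₁ ≅ M := (F q).mapIso eX ≪≫ (singleFunctorCompHomologyFunctorIso (ModuleCat.{u} A) q).app M
    let φ : M →ₗ[A] N := (eM.inv ≫ (F q).map j ≫ (F q).map ι₁).hom
    have hφ : Function.Injective φ :=
      ((hinjC q le_rfl).comp (hinjX q (by omega))).comp eM.symm.toLinearEquiv.injective
    have hφG : ∀ x, φ x ∈ G := by
      intro x
      have h0 : f • φ x = 0 := by
        rw [← homologyMap_smul_id Y f q]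
        have h := congrArg (fun g => ((F q).map g).hom (((F q).map j).hom (eM.inv.hom x)))
          (show ι₁ ≫ (f • 𝟙 Y) = 0 from comp_distTriang_mor_zero₁₂ _ hP)
        simp only [Functor.map_comp, Functor.map_zero] at h
        exact h
      have h1 : f • (Submodule.Quotient.mk (φ x) : N ⧸ G) = f • 0 := by
        rw [smul_zero, ← Submodule.Quotient.mk_smul, h0, Submodule.Quotient.mk_zero]
      exact (Submodule.Quotient.mk_eq_zero G).1 (hreg h1)
    haveI : Module.Finite A M := Module.Finite.of_injective φ hφ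
    have hMk : ∀ a ∈ K0, ∀ x : M, a • x = 0 := fun a ha x =>
      hφ (by rw [map_smul, map_zero]; exact congrArg Subtype.val (hkill a ha ⟨_, hφG x⟩))
    have hM0 : ∀ a ∈ K0, a • 𝟙 X₁ = 0 := fun a ha => by
      refine smul_id_of_iso eX.symm ?_
      rw [← (singleFunctor (ModuleCat.{u} A) q).map_id, ← Functor.map_smul,
        show a • 𝟙 M = 0 from ModuleCat.hom_ext (LinearMap.ext (hMk a ha)), Functor.map_zero]
    have hfinX₁ : Module.Finite A (H T X₁) := by
      haveI := finite_single (T := T) M K0 hK0 hMk m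
      let e : X₁ ≅ ((singleFunctor (ModuleCat.{u} A) 0).obj M)⟦(m : ℤ)⟧ :=
        eX ≪≫ (((singleFunctors (ModuleCat.{u} A)).shiftIso (m : ℤ) q 0 (by omega)).app M).symm
      exact Module.Finite.equiv (Hiso e).symm
    refine finite_mid hR hfinX₁ (ih X₃ ?_ ?_ (J * J * K0)
      (HTLib.zeroLocus_mul_subset (HTLib.zeroLocus_mul_subset hJ hJ) hK0) ?_)
    · rw [show (1 - (m : ℤ)) = q + 1 by omega]; exact h3ge
    · intro k
      haveI := hCfin k
      haveI : ∀ k : ℤ, Module.Finite A ((F k).obj X₁) := fun k => by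
        by_cases hkq : k = q
        · subst hkq; exact Module.Finite.equiv eM.symm.toLinearEquiv
        · haveI : Subsingleton ((F k).obj X₁) := ModuleCat.subsingleton_of_isZero (by
            rcases lt_or_gt_of_ne hkq with h | h
            · exact isZero_of_isGE X₁ q k h
            · exact isZero_of_isLE X₁ q k h)
          infer_instance
      haveI : IsNoetherian A ((F (k + 1)).obj R.obj₁) :=
        show IsNoetherian A ((F (k + 1)).obj X₁) from isNoetherian_of_isNoetherianRing_of_finite A _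
      haveI : IsNoetherian A ((homologyFunctor (ModuleCat.{u} A) (k + 1)).obj R.obj₁) :=
        show IsNoetherian A ((F (k + 1)).obj R.obj₁) from inferInstance
      show Module.Finite A ((homologyFunctor (ModuleCat.{u} A) k).obj R.obj₃)
      have hex := (ShortComplex.ShortExact.moduleCat_exact_iff_function_exact _).1
        (HomologySequence.exact₃ R hR k (k + 1) rfl)
      refine ⟨Submodule.fg_of_fg_map_of_fg_inf_ker (HomologySequence.δ R k (k + 1) rfl).hom
        (IsNoetherian.noetherian _) ?_⟩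
      rw [top_inf_eq]
      refine Eq.subst (motive := fun S => Submodule.FG S) (LinearMap.exact_iff.1 hex).symm ?_
      rw [LinearMap.range_eq_map]
      exact (hCfin k).fg_top.map _
    · intro l c hc z
      let R' := (Triangle.shiftFunctor (Dual.D A) (-l : ℤ)).obj R.rotate
      have hR' : R' ∈ distTriang (Dual.D A) := Triangle.shift_distinguished _ (rot_of_distTriang _ hR) _
      exact kill_mid_ideal (T := T) hR' (hCk l)
        (fun a ha => kill_of_id (smul_id_map (smul_id_map (hM0 a ha) 1) _)) hc z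

end Groth.Agent.GrLib8.HDT
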