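import Groth.Prelude.Def_DualLC
import Mathlib.Algebra.Homology.DerivedCategory.SingleTriangle
import Mathlib.Algebra.Homology.DerivedCategory.TStructure
import Mathlib.Algebra.Homology.DerivedCategory.FullyFaithful
import Mathlib.Algebra.Homology.DerivedCategory.Linear
import Mathlib.Algebra.Homology.ShortComplex.ModuleCat
import Mathlib.RingTheory.Finiteness.Basic

/-!
# Killing all maps from supported modules
-/

set_option autoImplicit false
set_option linter.style.haveILetI false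
set_option backward.isDefEq.respectTransparency false

universe u

open CategoryTheory CategoryTheory.Limits Pretriangulated DerivedCategory

attribute [local instance] HasDerivedCategory.standard

namespace Groth.Agent.GrLib8.HDT

variable {A : Type u} [CommRing A]

/-- A module as an object in degree zero. -/
noncomputable abbrev sI {N₁ N₂ : Type u} [AddCommGroup N₁] [Module A N₁] [AddCommGroup N₂] [Module A N₂]
    (f : N₁ →ₗ[A] N₂) : Dual.inD A N₁ ⟶ Dual.inD A N₂ :=
  (DerivedCategory.singleFunctor (ModuleCat.{u} A) 0).map (ModuleCat.ofHom f)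

/-- Killing maps out of a shifted object. -/
theorem kill_shifted (X K : Dual.D A) (i : ℤ) (y : A) (h : ∀ φ : X ⟶ K⟦i - 1⟧, y • φ = 0)
    (ψ : X⟦(1 : ℤ)⟧ ⟶ K⟦i⟧) : y • ψ = 0 := by
  let σ : K⟦i⟧ ≅ (K⟦i - 1⟧)⟦(1 : ℤ)⟧ := (shiftFunctorAdd' (Dual.D A) (i - 1) 1 i (by omega)).app K
  obtain ⟨ψ', hψ'⟩ := (shiftFunctor (Dual.D A) (1 : ℤ)).map_surjective (ψ ≫ σ.hom)
  rw [← cancel_mono σ.hom, zero_comp, Linear.smul_comp, ← hψ', ← Functor.map_smul, h ψ', Functor.map_zero]

/-- Maps vanishing on a surjection factor through the connecting map. -/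
theorem exists_factor_shift {N₁ N₂ N₃ : Type u} [AddCommGroup N₁] [Module A N₁] [AddCommGroup N₂] [Module A N₂]
    [AddCommGroup N₃] [Module A N₃] {f : N₁ →ₗ[A] N₂} {g : N₂ →ₗ[A] N₃} (hf : Function.Injective f)
    (hg : Function.Surjective g) (hfg : Function.Exact f g) (Y : Dual.D A) (φ : Dual.inD A N₃ ⟶ Y)
    (h : sI g ≫ φ = 0) :
    ∃ (w : Dual.inD A N₃ ⟶ (Dual.inD A N₁)⟦(1 : ℤ)⟧) (ψ : (Dual.inD A N₁)⟦(1 : ℤ)⟧ ⟶ Y), φ = w ≫ ψ := by
  let S : ShortComplex (ModuleCat.{u} A) := ShortComplex.mk (ModuleCat.ofHom f) (ModuleCat.ofHom g)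
    (ModuleCat.hom_ext hfg.linearMap_comp_eq_zero)
  have hS : S.ShortExact :=
    { exact := (ShortComplex.ShortExact.moduleCat_exact_iff_function_exact _).2 hfg
      mono_f := (ModuleCat.mono_iff_injective _).2 hf
      epi_g := (ModuleCat.epi_iff_surjective _).2 hg }
  obtain ⟨ψ, hψ⟩ := Triangle.yoneda_exact₃ _ hS.singleTriangle_distinguished φ h
  exact ⟨hS.singleTriangle.mor₃, ψ, hψ⟩

/-- Maps out of a finite free module over a quotient are killed once those out of the quotient are. -/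
theorem kill_pi (𝔞 : Ideal A) (Y : Dual.D A) (x : A) (h : ∀ φ : Dual.inD A (A ⧸ 𝔞) ⟶ Y, x • φ = 0) (r : ℕ)
    (φ : Dual.inD A (Fin r → A ⧸ 𝔞) ⟶ Y) : x • φ = 0 := by
  classical
  let F := DerivedCategory.singleFunctor (ModuleCat.{u} A) 0
  have hid : 𝟙 (ModuleCat.of A (Fin r → A ⧸ 𝔞)) = ∑ j : Fin r, (ModuleCat.ofHom
      (LinearMap.proj (R := A) (φ := fun _ : Fin r => A ⧸ 𝔞) j) ≫
        ModuleCat.ofHom (LinearMap.single A (fun _ : Fin r => A ⧸ 𝔞) j)) := by
    refine ModuleCat.hom_ext (LinearMap.ext fun z => ?_)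
    rw [ModuleCat.hom_sum, LinearMap.sum_apply]
    show z = _
    exact (Finset.univ_sum_single z).symm
  rw [← Category.id_comp φ]
  show x • (𝟙 (F.obj (ModuleCat.of A (Fin r → A ⧸ 𝔞))) ≫ φ) = 0
  rw [← CategoryTheory.Functor.map_id, hid, Functor.map_sum, Preadditive.sum_comp, Finset.smul_sum]
  refine Finset.sum_eq_zero fun j _ => ?_
  rw [Functor.map_comp, Category.assoc, ← Linear.comp_smul, h, comp_zero]

variable [IsNoetherianRing A]

/-- The ideals of the family kill a module. -/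
def Killed (P : Ideal A → Prop) (N : Type u) [AddCommGroup N] [Module A N] : Prop :=
  ∃ 𝔞 : Ideal A, P 𝔞 ∧ ∀ a ∈ 𝔞, ∀ w : N, a • w = 0

/-- If maps from the cyclic modules of the family are killed up to shrinking, all maps from modules of the
family are killed by a power, uniformly. -/
theorem exists_uniform_kill (P : Ideal A → Prop) (J : Ideal A) (K : Dual.D A) (a : ℤ) [K.IsGE a] (s : ℤ)
    (hJ : ∀ i : ℤ, i ≤ s → ∀ x ∈ J, ∀ 𝔞 : Ideal A, P 𝔞 → ∀ φ : Dual.inD A (A ⧸ 𝔞) ⟶ K⟦i⟧,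
      ∃ (𝔟 : Ideal A) (h : 𝔟 ≤ 𝔞), P 𝔟 ∧ sI (Submodule.factor h) ≫ (x • φ) = 0) :
    ∃ e : ℕ, ∀ i : ℤ, i ≤ s → ∀ x ∈ J ^ e, ∀ (N : Type u) [AddCommGroup N] [Module A N] [Module.Finite A N],
      Killed P N → ∀ φ : Dual.inD A N ⟶ K⟦i⟧, x • φ = 0 := by
  suffices H : ∀ m : ℕ, ∃ e : ℕ, ∀ i : ℤ, i ≤ s → i < a + m → ∀ x ∈ J ^ e,
      ∀ (N : Type u) [AddCommGroup N] [Module A N] [Module.Finite A N], Killed P N →
        ∀ φ : Dual.inD A N ⟶ K⟦i⟧, x • φ = 0 by
    obtain ⟨e, he⟩ := H (s + 1 - a).toNat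
    exact ⟨e, fun i hi => he i hi (by omega)⟩
  intro m
  induction m with
  | zero =>
    refine ⟨0, fun i _ hi x _ N _ _ _ _ φ => ?_⟩
    haveI : (Dual.inD A N).IsLE 0 :=
      inferInstanceAs (((DerivedCategory.singleFunctor (ModuleCat.{u} A) 0).obj _).IsLE 0)
    haveI : (K⟦i⟧).IsGE (a - i) := TStructure.t.isGE_shift K a i (a - i) (by omega)
    rw [TStructure.t.zero φ 0 (a - i) (by omega), smul_zero]
  | succ m ih =>
    obtain ⟨e, he⟩ := ih
    refine ⟨e + (e + 1), fun i his hi => ?_⟩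
    have hcyc : ∀ x ∈ J ^ (e + 1), ∀ 𝔞 : Ideal A, P 𝔞 → ∀ φ : Dual.inD A (A ⧸ 𝔞) ⟶ K⟦i⟧, x • φ = 0 := by
      intro x hx 𝔞 h𝔞 φ
      rw [pow_succ] at hx
      refine Submodule.mul_induction_on hx (fun y hy z hz => ?_) fun u v hu hv => by rw [add_smul, hu, hv, add_zero]
      obtain ⟨𝔟, h, h𝔟, h0⟩ := hJ i his z hz 𝔞 h𝔞 φ
      obtain ⟨w, ψ, hψ⟩ := exists_factor_shift (f := (LinearMap.ker (Submodule.factor h)).subtype)
        Subtype.val_injective (Submodule.factor_surjective h) (LinearMap.exact_subtype_ker_map _) _ _ h0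
      rw [mul_smul, hψ, ← Linear.comp_smul]
      haveI : Module.Finite A (LinearMap.ker (Submodule.factor h)) :=
        Module.Finite.iff_fg.2 (IsNoetherian.noetherian _)
      rw [kill_shifted _ K i y (fun φ' => he (i - 1) (by omega) (by omega) y hy _
        ⟨𝔟, h𝔟, fun b hb v => Subtype.ext (by
          obtain ⟨c, hc⟩ := Submodule.Quotient.mk_surjective _ v.1
          show b • v.1 = 0
          rw [← hc, ← Submodule.Quotient.mk_smul, Submodule.Quotient.mk_eq_zero]
          exact 𝔟.mul_mem_right c hb)⟩ φ') ψ, comp_zero]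
    intro x hx N _ _ _ ⟨𝔞, h𝔞, hN⟩ φ
    rw [pow_add] at hx
    refine Submodule.mul_induction_on hx (fun y hy z hz => ?_) fun u v hu hv => by rw [add_smul, hu, hv, add_zero]
    obtain ⟨r, f, hf⟩ := Module.Finite.exists_fin (R := A) (M := N)
    let g : (Fin r → A ⧸ 𝔞) →ₗ[A] N := ∑ j : Fin r,
      (Submodule.liftQ 𝔞 (LinearMap.toSpanSingleton A N (f j)) fun b hb => hN b hb (f j)) ∘ₗ LinearMap.proj j
    have hg : Function.Surjective g := by
      rw [← LinearMap.range_eq_top, eq_top_iff, ← hf, Submodule.span_le]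
      rintro _ ⟨j, rfl⟩
      classical
      refine ⟨Pi.single j (Submodule.Quotient.mk 1), ?_⟩
      simp only [g, LinearMap.sum_apply, LinearMap.comp_apply, LinearMap.proj_apply]
      rw [Finset.sum_eq_single j (fun k _ hk => by rw [Pi.single_eq_of_ne hk, map_zero])
        (fun h => absurd (Finset.mem_univ j) h), Pi.single_eq_same]
      exact one_smul A (f j)
    have h0 : sI g ≫ (z • φ) = 0 := by
      rw [Linear.comp_smul]
      exact kill_pi 𝔞 _ z (hcyc z hz 𝔞 h𝔞) r _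
    obtain ⟨w, ψ, hψ⟩ := exists_factor_shift (f := (LinearMap.ker g).subtype)
      Subtype.val_injective hg (LinearMap.exact_subtype_ker_map _) _ _ h0
    rw [mul_smul, hψ, ← Linear.comp_smul]
    haveI : Module.Finite A (LinearMap.ker g) := Module.Finite.iff_fg.2 (IsNoetherian.noetherian _)
    rw [kill_shifted _ K i y (fun φ' => he (i - 1) (by omega) (by omega) y hy _
      ⟨𝔞, h𝔞, fun b hb v => Subtype.ext (funext fun j => by
        obtain ⟨c, hc⟩ := Submodule.Quotient.mk_surjective _ (v.1 j)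
        show b • v.1 j = 0
        rw [← hc, ← Submodule.Quotient.mk_smul, Submodule.Quotient.mk_eq_zero]
        exact 𝔞.mul_mem_right c hb)⟩ φ') ψ, comp_zero]

end Groth.Agent.GrLib8.HDT
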