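import Groth.Agent.GrLib8.CplKill.DualVanish
import Groth.Agent.GrLib8.CplKill.BoundedInd
import Groth.Agent.GrLib8.ProZ.Support
import Groth.Agent.GrLib8.FaltingsDual.Local
import Groth.Agent.GrLib8.HDT.HomKill
import Groth.Agent.GrLib8.HDT.Finite
import Mathlib.RingTheory.Filtration

/-!
# Killing maps from supported modules through the dual
-/

set_option autoImplicit false
set_option linter.style.haveILetI false
set_option backward.isDefEq.respectTransparency false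

universe u

open CategoryTheory CategoryTheory.Limits Pretriangulated DerivedCategory MonoidalCategory

attribute [local instance] HasDerivedCategory.standard

namespace Groth.Agent.GrLib8.HDT

open Groth.Agent.KFlatLib

variable {A : Type u} [CommRing A]

/-- Beyond a truncation the cohomology is unchanged. -/
theorem nonempty_hd_of_tri (U : Triangle (Dual.D A)) (hU : U ∈ distTriang (Dual.D A)) (m c : ℤ)
    [U.obj₁.IsLE m] (hc : m < c) : Nonempty (Dual.HD A U.obj₂ c ≃ₗ[A] Dual.HD A U.obj₃ c) := by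
  haveI : Mono ((DerivedCategory.homologyFunctor (ModuleCat.{u} A) c).map U.mor₂) :=
    (DerivedCategory.HomologySequence.exact₂ _ hU c).mono_g
      ((DerivedCategory.isZero_of_isLE U.obj₁ m c hc).eq_of_src _ _)
  haveI : Epi ((DerivedCategory.homologyFunctor (ModuleCat.{u} A) c).map U.mor₂) :=
    (DerivedCategory.HomologySequence.exact₃ _ hU c (c + 1) rfl).epi_f
      ((DerivedCategory.isZero_of_isLE U.obj₁ m (c + 1) (by omega)).eq_of_tgt _ _)
  exact ⟨(@asIso _ _ _ _ _ (isIso_of_mono_of_epi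
    ((DerivedCategory.homologyFunctor (ModuleCat.{u} A) c).map U.mor₂))).toLinearEquiv⟩

/-- The upper truncation of a bounded above object. -/
theorem exists_upper (D : Dual.D A) (b c : ℤ) [D.IsLE b] (hfin : ∀ i, Module.Finite A (Dual.HD A D i)) :
    ∃ U : Triangle (Dual.D A), U ∈ distTriang (Dual.D A) ∧ U.obj₂ = D ∧ U.obj₁.IsLE (c - 1) ∧ U.obj₃.IsGE c ∧
      U.obj₃.IsLE (max b (c - 1)) ∧ (∀ i, Module.Finite A (Dual.HD A U.obj₃ i)) ∧
      ∀ d : ℤ, c ≤ d → Nonempty (Dual.HD A D d ≃ₗ[A] Dual.HD A U.obj₃ d) := by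
  let U := (TStructure.t.triangleLTGE c).obj D
  have hU : U ∈ distTriang (Dual.D A) := TStructure.t.triangleLTGE_distinguished c D
  haveI h₁ : U.obj₁.IsLE (c - 1) := TStructure.t.isLE_truncLT_obj D c (c - 1) (by omega)
  haveI h₃ : U.obj₃.IsGE c := inferInstanceAs (TStructure.t.IsGE ((TStructure.t.truncGE c).obj D) c)
  have hiso : ∀ d : ℤ, c ≤ d → Nonempty (Dual.HD A D d ≃ₗ[A] Dual.HD A U.obj₃ d) :=
    fun d hd => nonempty_hd_of_tri U hU (c - 1) d (by omega)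
  refine ⟨U, hU, rfl, h₁, h₃, (DerivedCategory.isLE_iff _ _).2 fun d hd => ?_, fun i => ?_, hiso⟩
  · obtain ⟨e⟩ := hiso d (by omega)
    haveI : Subsingleton (Dual.HD A D d) :=
      ModuleCat.subsingleton_of_isZero (DerivedCategory.isZero_of_isLE D b d (by omega))
    haveI : Subsingleton (Dual.HD A U.obj₃ d) := e.symm.toEquiv.subsingleton
    exact ModuleCat.isZero_of_subsingleton _
  · by_cases hi : c ≤ i
    · obtain ⟨e⟩ := hiso i hi
      haveI := hfin i
      exact Module.Finite.equiv e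
    · haveI : Subsingleton (Dual.HD A U.obj₃ i) :=
        ModuleCat.subsingleton_of_isZero (DerivedCategory.isZero_of_isGE U.obj₃ c i (not_le.1 hi))
      exact Module.Finite.of_finite

variable [IsNoetherianRing A]

omit [IsNoetherianRing A] in
/-- A finite module killed elementwise by a multiplicative set is killed by one of its elements. -/
theorem exists_kill_module (S : Submonoid A) (W : Type u) [AddCommGroup W] [Module A W] [Module.Finite A W]
    (h : ∀ w : W, ∃ s ∈ S, s • w = 0) : ∃ s ∈ S, ∀ w : W, s • w = 0 := by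
  classical
  obtain ⟨r, f, hf⟩ := Module.Finite.exists_fin (R := A) (M := W)
  choose t htS ht using fun j => h (f j)
  refine ⟨∏ j, t j, S.prod_mem fun j _ => htS j, fun w => ?_⟩
  have hw : w ∈ (⊤ : Submodule A W) := trivial
  rw [← hf] at hw
  induction hw using Submodule.span_induction with
  | mem z hz =>
    obtain ⟨j, rfl⟩ := hz
    rw [← Finset.prod_erase_mul _ _ (Finset.mem_univ j), mul_smul, ht, smul_zero]
  | zero => rw [smul_zero]
  | add x y _ _ hx hy => rw [smul_add, hx, hy, add_zero]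
  | smul r y _ hy => rw [smul_comm, hy, smul_zero]

/-- A bounded object with killed cohomology has a killed identity. -/
theorem exists_kill_id (S : Submonoid A) (Y : Dual.D A) (a b : ℤ) [Y.IsGE a] [Y.IsLE b]
    (hfin : ∀ i, Module.Finite A (Dual.HD A Y i))
    (hk : ∀ c : ℤ, a ≤ c → ∀ w : Dual.HD A Y c, ∃ s ∈ S, s • w = 0) : ∃ s ∈ S, s • 𝟙 Y = 0 := by
  have hmid : ∀ U ∈ distTriang (Dual.D A), (∃ s ∈ S, s • 𝟙 U.obj₁ = 0) → (∃ s ∈ S, s • 𝟙 U.obj₃ = 0) →
      ∃ s ∈ S, s • 𝟙 U.obj₂ = 0 := by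
    intro U hU ⟨s₁, hs₁, h₁⟩ ⟨s₃, hs₃, h₃⟩
    obtain ⟨k, hk'⟩ := Triangle.coyoneda_exact₂ _ hU (s₃ • 𝟙 U.obj₂) (by
      rw [Linear.smul_comp, Category.id_comp, ← Category.comp_id U.mor₂, ← Linear.comp_smul, h₃, comp_zero])
    refine ⟨s₁ * s₃, S.mul_mem hs₁ hs₃, ?_⟩
    rw [mul_smul, hk', ← Linear.comp_smul, ← Category.id_comp U.mor₁, ← Linear.smul_comp, h₁, zero_comp, comp_zero]
  have hmod : ∀ (c : ℤ) (W : Type u) [AddCommGroup W] [Module A W] [Module.Finite A W], a ≤ c →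
      Nonempty (Dual.HD A Y c ≃ₗ[A] W) → ∃ s ∈ S, s • 𝟙 ((Dual.inD A W)⟦-c⟧) = 0 := by
    intro c W _ _ _ hc ⟨e⟩
    obtain ⟨s, hs, h⟩ := exists_kill_module S W fun w => by
      obtain ⟨s, hs, h⟩ := hk c hc (e.symm w)
      exact ⟨s, hs, e.symm.injective (by rw [map_smul, h, map_zero])⟩
    refine ⟨s, hs, ?_⟩
    have h1 : s • 𝟙 (ModuleCat.of A W) = 0 := ModuleCat.hom_ext (LinearMap.ext h)
    show s • 𝟙 ((shiftFunctor (Dual.D A) (-c)).obj ((DerivedCategory.singleFunctor (ModuleCat.{u} A) 0).obj _)) = 0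
    rw [← CategoryTheory.Functor.map_id, ← CategoryTheory.Functor.map_id, ← Functor.map_smul, ← Functor.map_smul, h1,
      Functor.map_zero, Functor.map_zero]
  exact CplKill.bounded_induction (fun Z => ∃ s ∈ S, s • 𝟙 Z = 0) (fun Z hZ => ⟨1, S.one_mem, hZ.eq_of_src _ _⟩)
    hmid b (b + 1 - a).toNat Y a inferInstance inferInstance (by omega) hfin hmod

variable [DTen.HasLTen A] [DTen.HasRHom A] {ω : Dual.D A} {n : PrimeSpectrum A → ℤ}

omit [IsNoetherianRing A] in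
/-- Exchanging the two duals. -/
theorem exists_swapLEquiv (D E : Dual.D A) (c : ℤ) :
    Nonempty ((D ⟶ ((DTen.RHomR A E).obj ω)⟦c⟧) ≃ₗ[A] (E ⟶ ((DTen.RHomR A D).obj ω)⟦c⟧)) := by
  haveI := hasLTen₃ A
  haveI := isSymMonoidal A
  obtain ⟨sE⟩ := nonempty_RHomR_shift E c
  obtain ⟨sD⟩ := nonempty_RHomR_shift D c
  exact ⟨(Linear.homCongr A (Iso.refl D) (sE.app ω)).trans ((rhomLEquiv D E (ω⟦c⟧)).symm.trans
    ((Linear.homCongr A (DTen.braiding E D) (Iso.refl (ω⟦c⟧))).trans ((rhomLEquiv E D (ω⟦c⟧)).trans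
      (Linear.homCongr A (Iso.refl E) (sD.app ω).symm))))⟩

/-- Vanishing in the dual gives uniform killing. -/
theorem exists_kill_of_range (hω : Dual.IsDualizing A ω) (hn : IsExtDegree ω n) (hmono : StrictMono n)
    (T T' : Set (PrimeSpectrum A)) (hT' : StableUnderSpecialization T') (K : Dual.D A) (a : ℤ) [K.IsGE a] (hK : ∀ i, Module.Finite A (Dual.HD A K i))
    (s : ℤ) (hC : ∀ (c : ℤ) (Q : PrimeSpectrum A),
      Q ∈ Module.support A (Dual.HD A ((DTen.RHomR A K).obj ω) c) → Q ∉ T' → ∀ q ∈ T, Q ≤ q → c + s < n q) :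
    ∃ J : Ideal A, PrimeSpectrum.zeroLocus (J : Set A) ⊆ T' ∧ ∀ i : ℤ, i ≤ s → ∀ x ∈ J, ∀ 𝔞 : Ideal A,
      PrimeSpectrum.zeroLocus (𝔞 : Set A) ⊆ T → ∀ φ : Dual.inD A (A ⧸ 𝔞) ⟶ K⟦i⟧, x • φ = 0 := by
  let F : Dual.D A → Dual.D A := fun Y => (DTen.RHomR A Y).obj ω
  let G : Dual.D A → Prop := fun Y => ∃ J : Ideal A, PrimeSpectrum.zeroLocus (J : Set A) ⊆ T' ∧
    ∀ i : ℤ, i ≤ s → ∀ x ∈ J, ∀ 𝔞 : Ideal A, PrimeSpectrum.zeroLocus (𝔞 : Set A) ⊆ T →
      ∀ φ : Dual.inD A (A ⧸ 𝔞) ⟶ (F Y)⟦i⟧, x • φ = 0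
  have htop : PrimeSpectrum.zeroLocus ((⊤ : Ideal A) : Set A) ⊆ T' := by simp
  have hiso : ∀ {Y Y' : Dual.D A}, (Y ≅ Y') → G Y → G Y' := by
    intro Y Y' e ⟨J, hJ, hk⟩
    refine ⟨J, hJ, fun i hi x hx 𝔞 h𝔞 φ => ?_⟩
    rw [← cancel_mono ((shiftFunctor (Dual.D A) i).mapIso (((DTen.RHom A).mapIso e.op).app ω)).hom, zero_comp,
      Linear.smul_comp]
    exact hk i hi x hx 𝔞 h𝔞 _
  have hmid : ∀ U ∈ distTriang (Dual.D A), G U.obj₁ → G U.obj₃ → G U.obj₂ := by
    intro U hU ⟨J₁, hJ₁, hk₁⟩ ⟨J₃, hJ₃, hk₃⟩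
    obtain ⟨c, hc⟩ := exists_triangle_RHomMap U hU ω
    refine ⟨J₃ * J₁, HTLib.zeroLocus_mul_subset hJ₃ hJ₁, fun i hi x hx 𝔞 h𝔞 φ => ?_⟩
    refine Submodule.mul_induction_on hx (fun y hy z hz => ?_) fun u v hu hv => by rw [add_smul, hu, hv, add_zero]
    obtain ⟨k, hk⟩ := Triangle.coyoneda_exact₂ _ (Triangle.shift_distinguished _ hc i) (z • φ) (by
      rw [Linear.smul_comp]; exact hk₁ i hi z hz 𝔞 h𝔞 _)
    rw [mul_smul, hk]
    exact (Linear.smul_comp _ _ _ _ _ _).symm.trans ((congrArg (· ≫ _) (hk₃ i hi y hy 𝔞 h𝔞 k)).trans zero_comp)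
  have hmodzero : ∀ (N : Type u) [AddCommGroup N] [Module A N] [Subsingleton N] (c : ℤ),
      G ((Dual.inD A N)⟦c⟧) := by
    intro N _ _ _ c
    obtain ⟨e⟩ := CplKill.nonempty_RHom_shift (Dual.inD A N) ω c
    have h0 : (1 : A) • 𝟙 (F (Dual.inD A N)) = 0 := CplKill.smul_id_RHom N ω 1 fun w => Subsingleton.elim _ _
    rw [one_smul] at h0
    have hz : IsZero (F ((Dual.inD A N)⟦c⟧)) :=
      ((shiftFunctor (Dual.D A) (-c)).map_isZero ((IsZero.iff_id_eq_zero _).2 h0)).of_iso e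
    exact ⟨⊤, htop, fun i _ x _ 𝔞 _ φ => ((shiftFunctor (Dual.D A) i).map_isZero hz).eq_of_tgt _ _⟩
  have hzero : ∀ Y, IsZero Y → G Y := by
    intro Y hY
    exact hiso (IsZero.iso ((shiftFunctor (Dual.D A) (0 : ℤ)).map_isZero
      ((DerivedCategory.singleFunctor (ModuleCat.{u} A) 0).map_isZero
        (ModuleCat.isZero_of_subsingleton (ModuleCat.of A PUnit.{u + 1})))) hY) (hmodzero PUnit.{u + 1} 0)
  have hquot : ∀ (c : ℤ) (Q : PrimeSpectrum A), Q ∈ Module.support A (Dual.HD A (F K) c) →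
      G ((Dual.inD A (A ⧸ Q.asIdeal))⟦-c⟧) := by
    intro c Q hQ
    obtain ⟨e⟩ := CplKill.nonempty_RHom_shift (Dual.inD A (A ⧸ Q.asIdeal)) ω (-c)
    by_cases hQT : Q ∈ T'
    · refine ⟨Q.asIdeal, fun r hr => ?_, fun i _ x hx 𝔞 _ φ => ?_⟩
      · exact hT' ((PrimeSpectrum.le_iff_specializes Q r).1 hr) hQT
      · have h0 := smul_id_map (smul_id_of_iso e.symm (smul_id_map (CplKill.smul_id_RHom (A ⧸ Q.asIdeal) ω x fun w => by
          obtain ⟨z, rfl⟩ := Submodule.Quotient.mk_surjective _ w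
          rw [← Submodule.Quotient.mk_smul, Submodule.Quotient.mk_eq_zero]
          exact Q.asIdeal.mul_mem_right z hx) (- -c))) i
        rw [← Category.comp_id φ, ← Linear.comp_smul, h0, comp_zero]
    · refine ⟨⊤, htop, fun i hi x _ 𝔞 h𝔞 φ => ?_⟩
      haveI := CplKill.subsingleton_hom_supported hn hmono Q 𝔞 (i + c + 1)
        (fun q hQq hq => by have := hC c Q hQ hQT q (h𝔞 hq) hQq; omega) (i + c) (by omega) 𝔞 le_rfl (A ⧸ 𝔞)
        fun q hq => CplKill.support_quot.1 hq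
      let e₂ : (F ((Dual.inD A (A ⧸ Q.asIdeal))⟦-c⟧))⟦i⟧ ≅ (F (Dual.inD A (A ⧸ Q.asIdeal)))⟦i + c⟧ :=
        (shiftFunctor (Dual.D A) i).mapIso e ≪≫
          ((shiftFunctorAdd' (Dual.D A) (- -c) i (i + c) (by omega)).app _).symm
      rw [← cancel_mono e₂.hom, zero_comp, Linear.smul_comp, Subsingleton.elim (φ ≫ e₂.hom) 0, smul_zero]
  have hmod : ∀ (c : ℤ) (N : Type u) [AddCommGroup N] [Module A N] [Module.Finite A N],
      Module.support A N ⊆ Module.support A (Dual.HD A (F K) c) → G ((Dual.inD A N)⟦-c⟧) := by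
    intro c N _ _ _ hN
    refine IsNoetherianRing.induction_on_isQuotientEquivQuotientPrime A (M := N) inferInstance
      (motive := fun N _ _ _ => Module.support A N ⊆ Module.support A (Dual.HD A (F K) c) →
        G ((Dual.inD A N)⟦-c⟧)) ?_ ?_ ?_ hN
    · intro N _ _ _ _ _
      exact hmodzero N (-c)
    · intro N _ _ _ Q e hN
      exact hiso ((shiftFunctor (Dual.D A) (-c)).mapIso ((DerivedCategory.singleFunctor (ModuleCat.{u} A) 0).mapIso
        e.toModuleIso.symm)) (hquot c Q (hN (by rw [e.support_eq]; exact CplKill.support_quot.2 le_rfl)))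
    · intro N₁ _ _ _ N₂ _ _ _ N₃ _ _ _ f g hf hg hfg h₁ h₃ hN
      let S : ShortComplex (ModuleCat.{u} A) := ShortComplex.mk (ModuleCat.ofHom f) (ModuleCat.ofHom g)
        (ModuleCat.hom_ext hfg.linearMap_comp_eq_zero)
      have hS : S.ShortExact :=
        { exact := (ShortComplex.ShortExact.moduleCat_exact_iff_function_exact _).2 hfg
          mono_f := (ModuleCat.mono_iff_injective _).2 hf
          epi_g := (ModuleCat.epi_iff_surjective _).2 hg }
      exact hmid _ (Triangle.shift_distinguished _ hS.singleTriangle_distinguished (-c))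
        (h₁ fun q hq => hN (Module.support_subset_of_injective f hf hq))
        (h₃ fun q hq => hN (Module.support_subset_of_surjective g hg hq))
  obtain ⟨aω, bω, hab, ha, hb⟩ := exists_bounds_of_isDualizing hω
  haveI := ha
  let D := F K
  haveI : D.IsLE (bω - a) := isLE_RHomR K ω a aω bω hab
  obtain ⟨U, hU, hU₂, hU₁, hU₃, hU₃', hfin₃, hiso₃⟩ := exists_upper D (bω - a) (aω - s)
    fun i => finite_hd_RHom_of_finite_hd hK hω.finite_cohomology ⟨aω, bω, hab⟩ i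
  haveI := hU₁
  haveI := hU₃
  haveI := hU₃'
  have h₁G : G U.obj₁ := by
    refine ⟨⊤, htop, fun i hi x _ 𝔞 _ φ => ?_⟩
    haveI : (Dual.inD A (A ⧸ 𝔞)).IsLE 0 :=
      inferInstanceAs (((DerivedCategory.singleFunctor (ModuleCat.{u} A) 0).obj _).IsLE 0)
    haveI : (F U.obj₁).IsGE (s + 1) := by
      have h := isGE_RHomR U.obj₁ ω (aω - s - 1) aω
      rwa [show aω - (aω - s - 1) = s + 1 by omega] at h
    haveI : ((F U.obj₁)⟦i⟧).IsGE (s + 1 - i) := TStructure.t.isGE_shift _ (s + 1) i (s + 1 - i) (by omega)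
    rw [TStructure.t.zero φ 0 (s + 1 - i) (by omega), smul_zero]
  have h₃G : G U.obj₃ := CplKill.bounded_induction G hzero hmid (max (bω - a) (aω - s - 1))
    (max (bω - a) (aω - s - 1) + 1 - (aω - s)).toNat U.obj₃ (aω - s) inferInstance hU₃'
    (by omega) hfin₃ fun c N _ _ _ hc ⟨eN⟩ => hmod c N (by
      obtain ⟨e⟩ := hiso₃ c hc
      rw [(eN.symm.trans e.symm).support_eq])
  obtain ⟨J, hJ, hk⟩ := hmid U hU h₁G h₃G
  rw [hU₂] at hk
  obtain ⟨eK⟩ := nonempty_biduality hω hK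
  refine ⟨J, hJ, fun i hi x hx 𝔞 h𝔞 φ => ?_⟩
  rw [← cancel_mono ((shiftFunctor (Dual.D A) i).mapIso eK.symm).hom, zero_comp, Linear.smul_comp]
  exact hk i hi x hx 𝔞 h𝔞 _

/-- Maps from supported modules killed near a prime kill the high cohomology of the dual there. -/
theorem exists_kill_dual (hω : Dual.IsDualizing A ω) (hn : IsExtDegree ω n) (hmono : StrictMono n)
    (q : PrimeSpectrum A) (g : A) (K : Dual.D A) (a : ℤ) [K.IsGE a] (hK : ∀ i, Module.Finite A (Dual.HD A K i))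
    (s : ℤ) (hkill : ∀ i : ℤ, i ≤ s → ∀ (N : Type u) [AddCommGroup N] [Module A N] [Module.Finite A N],
      (∃ l : ℕ, ∀ x ∈ q.asIdeal ^ l, ∀ w : N, x • w = 0) → ∀ φ : Dual.inD A N ⟶ K⟦i⟧,
        ∃ h ∉ q.asIdeal, (h * g) • φ = 0)
    (c : ℤ) (hc : n q - s ≤ c) (w : Dual.HD A ((DTen.RHomR A K).obj ω) c) :
    ∃ h ∉ q.asIdeal, ∃ m : ℕ, (h * g ^ m) • w = 0 := by
  classical
  obtain ⟨aω, bω, hab, ha, hb⟩ := exists_bounds_of_isDualizing hω
  haveI := ha
  let D := (DTen.RHomR A K).obj ω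
  have hfin : ∀ i, Module.Finite A (Dual.HD A D i) := fun i =>
    finite_hd_RHom_of_finite_hd hK hω.finite_cohomology ⟨aω, bω, hab⟩ i
  let b := bω - a
  haveI : D.IsLE b := isLE_RHomR K ω a aω bω hab
  obtain ⟨eK⟩ := nonempty_biduality hω hK
  -- killing maps into supported modules
  have hA' : ∀ (c : ℤ), n q - s ≤ c → ∀ (N : Type u) [AddCommGroup N] [Module A N] [Module.Finite A N],
      (∃ l : ℕ, ∀ x ∈ q.asIdeal ^ l, ∀ w : N, x • w = 0) → ∀ ψ : D ⟶ (Dual.inD A N)⟦-c⟧,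
        ∃ h ∉ q.asIdeal, (h * g) • ψ = 0 := by
    intro c hc N _ _ _ ⟨l, hl⟩ ψ
    let E := (DTen.RHomR A (Dual.inD A N)).obj ω
    have hsupp : ∀ P ∈ Module.support A N, q ≤ P := fun P hP =>
      P.isPrime.le_of_pow_le fun x hx => Module.annihilator_le_of_mem_support hP (Module.mem_annihilator.2 (hl x hx))
    haveI : E.IsGE (n q) := CplKill.isGE_RHom hn N (n q) fun P hP => hmono.monotone (hsupp P hP)
    haveI : (Dual.inD A N).IsGE 0 :=
      inferInstanceAs (((DerivedCategory.singleFunctor (ModuleCat.{u} A) 0).obj _).IsGE 0)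
    haveI : E.IsLE (bω - 0) := isLE_RHomR _ ω 0 aω bω hab
    have hfinE : ∀ i, Module.Finite A (Dual.HD A E i) := fun i =>
      finite_hd_RHom_of_finite_hd (DualizingCd.finite_hd_inD N) hω.finite_cohomology ⟨aω, bω, hab⟩ i
    obtain ⟨eN⟩ := nonempty_biduality hω (fun j => DualizingCd.finite_hd_inD N j)
    obtain ⟨Φ₀⟩ := exists_swapLEquiv (ω := ω) D E (-c)
    let Φ : (D ⟶ (Dual.inD A N)⟦-c⟧) ≃ₗ[A] (E ⟶ K⟦-c⟧) :=
      (Linear.homCongr A (Iso.refl D) ((shiftFunctor (Dual.D A) (-c)).mapIso eN.symm)).trans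
        (Φ₀.trans (Linear.homCongr A (Iso.refl E) ((shiftFunctor (Dual.D A) (-c)).mapIso eK)))
    suffices ∀ θ : E ⟶ K⟦-c⟧, ∃ h ∉ q.asIdeal, (h * g) • θ = 0 by
      obtain ⟨h, hh, h0⟩ := this (Φ ψ)
      exact ⟨h, hh, Φ.injective (by rw [map_smul, h0, map_zero])⟩
    intro θ
    obtain ⟨M, ⟨X₁, X₂, X₃, f₁, f₂, f₃⟩, hV, h₁, h₂, h₃, ⟨eM⟩⟩ := exists_bottom_triangle E (n q)
    obtain rfl : X₁ = (Dual.inD A M)⟦-(n q)⟧ := h₁
    obtain rfl : X₂ = E := h₂
    haveI : Module.Finite A M := by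
      haveI := hfinE (n q)
      exact Module.Finite.equiv eM
    have hMl : ∀ x ∈ q.asIdeal ^ l, ∀ w : M, x • w = 0 := by
      intro x hx w
      obtain ⟨e⟩ := exists_hdRHomLEquiv (Dual.inD A N) ω (n q)
      obtain ⟨e'⟩ := exists_shiftHomLEquiv (Dual.inD A N) ω (n q)
      refine (eM.symm.trans (e.trans e'.symm)).injective ?_
      rw [map_smul, map_zero]
      generalize (eM.symm.trans (e.trans e'.symm)) w = φ
      have h0 : x • 𝟙 (ModuleCat.of A N) = 0 := ModuleCat.hom_ext (LinearMap.ext (hl x hx))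
      rw [← Category.id_comp φ, ← Linear.smul_comp]
      show (x • 𝟙 ((DerivedCategory.singleFunctor (ModuleCat.{u} A) 0).obj (ModuleCat.of A N))) ≫ φ = 0
      rw [← CategoryTheory.Functor.map_id, ← Functor.map_smul, h0, Functor.map_zero, zero_comp]
    obtain ⟨es⟩ := exists_shiftHomLEquiv (Dual.inD A M) (K⟦-c⟧) (n q)
    let σ : (K⟦-c⟧)⟦n q⟧ ≅ K⟦n q - c⟧ := ((shiftFunctorAdd' (Dual.D A) (-c) (n q) (n q - c) (by omega)).app K).symm
    obtain ⟨h₀, hh₀, hk₀⟩ := hkill (n q - c) (by omega) M ⟨l, hMl⟩ ((es.symm (f₁ ≫ θ)) ≫ σ.hom)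
    have h0 : f₁ ≫ ((h₀ * g) • θ) = 0 := by
      rw [Linear.comp_smul]
      refine es.symm.injective ?_
      rw [map_smul, map_zero, ← cancel_mono σ.hom, Linear.smul_comp, zero_comp]
      exact hk₀
    obtain ⟨θ', hθ'⟩ := Triangle.yoneda_exact₂ _ hV _ h0
    haveI : X₃.IsGE (n q + 1) := h₃
    haveI : ((Dual.inD A M)⟦-(n q)⟧).IsLE (n q) := by
      haveI : (Dual.inD A M).IsLE 0 :=
        inferInstanceAs (((DerivedCategory.singleFunctor (ModuleCat.{u} A) 0).obj _).IsLE 0)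
      exact TStructure.t.isLE_shift (Dual.inD A M) 0 (-(n q)) (n q) (by omega)
    haveI : (Triangle.mk f₁ f₂ f₃).obj₁.IsLE (n q) := ‹((Dual.inD A M)⟦-(n q)⟧).IsLE (n q)›
    have hiso : ∀ d : ℤ, n q < d → Nonempty (Dual.HD A E d ≃ₗ[A] Dual.HD A X₃ d) :=
      fun d hd => nonempty_hd_of_tri _ hV (n q) d hd
    haveI : X₃.IsLE (max (bω - 0) (n q)) := (DerivedCategory.isLE_iff _ _).2 fun d hd => by
      obtain ⟨e⟩ := hiso d (by omega)
      haveI : Subsingleton (Dual.HD A E d) :=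
        ModuleCat.subsingleton_of_isZero (DerivedCategory.isZero_of_isLE E (bω - 0) d (by omega))
      haveI : Subsingleton (Dual.HD A X₃ d) := e.symm.toEquiv.subsingleton
      exact ModuleCat.isZero_of_subsingleton _
    obtain ⟨h', hh', hk'⟩ := exists_kill_id q.asIdeal.primeCompl X₃ (n q + 1) (max (bω - 0) (n q)) (fun d => by
        by_cases hd : n q < d
        · obtain ⟨e⟩ := hiso d hd
          haveI := hfinE d
          exact Module.Finite.equiv e
        · haveI : Subsingleton (Dual.HD A X₃ d) :=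
            ModuleCat.subsingleton_of_isZero (DerivedCategory.isZero_of_isGE X₃ (n q + 1) d (by omega))
          exact Module.Finite.of_finite) fun d hd w => by
      obtain ⟨x, hx, hxk⟩ := FaltingsDual.exists_annihilator_notMem hω N q d fun hs => by
        obtain ⟨δ, -, h⟩ := ProZ.numbers hω hn d hs
        omega
      obtain ⟨e₀⟩ := hiso d (by omega)
      obtain ⟨e⟩ := exists_hdRHomLEquiv (Dual.inD A N) ω d
      obtain ⟨e'⟩ := exists_shiftHomLEquiv (Dual.inD A N) ω d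
      exact ⟨x, hx, (e₀.symm.trans (e.trans e'.symm)).injective (by rw [map_smul, map_zero]; exact hxk _)⟩
    refine ⟨h' * h₀, q.asIdeal.primeCompl.mul_mem hh' hh₀, ?_⟩
    rw [mul_assoc, mul_smul, hθ']
    show h' • (f₂ ≫ θ') = 0
    rw [← Linear.comp_smul, ← Category.id_comp θ', ← Linear.smul_comp, hk', zero_comp, comp_zero]
  -- descending induction
  suffices H : ∀ k : ℕ, ∀ c : ℤ, n q - s ≤ c → b + 1 ≤ c + k → ∀ w : Dual.HD A D c,
      ∃ h ∉ q.asIdeal, ∃ m : ℕ, (h * g ^ m) • w = 0 from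
    H (b + 1 - c).toNat c hc (by omega) w
  intro k
  induction k using Nat.strong_induction_on with
  | _ k ih =>
  intro c hc hbc w
  by_cases hcb : b < c
  · haveI : Subsingleton (Dual.HD A D c) :=
      ModuleCat.subsingleton_of_isZero (DerivedCategory.isZero_of_isLE D b c hcb)
    exact ⟨1, q.asIdeal.primeCompl.one_mem, 0, Subsingleton.elim _ _⟩
  obtain ⟨⟨Y₁, Y₂, Z, π₁, π, π₃⟩, hU, hU₂, hU₁, hU₃, hU₃', hfinZ, hisoZ⟩ := exists_upper D b c hfin
  obtain rfl : Y₂ = D := hU₂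
  haveI : Y₁.IsLE (c - 1) := hU₁
  haveI : Z.IsGE c := hU₃
  haveI : Z.IsLE (max b (c - 1)) := hU₃'
  obtain ⟨M, ⟨X₁, X₂, X₃, f₁, f₂, f₃⟩, hV, h₁, h₂, h₃, ⟨eM⟩⟩ := exists_bottom_triangle Z c
  obtain rfl : X₁ = (Dual.inD A M)⟦-c⟧ := h₁
  change X₂ = Z at h₂
  subst X₂
  haveI : X₃.IsGE (c + 1) := h₃
  haveI : Module.Finite A M := by
    haveI : Module.Finite A (Dual.HD A Z c) := hfinZ c
    exact Module.Finite.equiv eM
  haveI : ((Dual.inD A M)⟦-c⟧).IsLE c := by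
    haveI : (Dual.inD A M).IsLE 0 :=
      inferInstanceAs (((DerivedCategory.singleFunctor (ModuleCat.{u} A) 0).obj _).IsLE 0)
    exact TStructure.t.isLE_shift (Dual.inD A M) 0 (-c) c (by omega)
  haveI : (Triangle.mk f₁ f₂ f₃).obj₁.IsLE c := ‹((Dual.inD A M)⟦-c⟧).IsLE c›
  have hiso : ∀ d : ℤ, c < d → Nonempty (Dual.HD A D d ≃ₗ[A] Dual.HD A X₃ d) := fun d hd => by
    obtain ⟨e⟩ := nonempty_hd_of_tri _ hV c d hd
    obtain ⟨e'⟩ := hisoZ d hd.le
    exact ⟨e'.trans e⟩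
  haveI : X₃.IsLE (max b c) := (DerivedCategory.isLE_iff _ _).2 fun d hd => by
    obtain ⟨e⟩ := hiso d (by omega)
    haveI : Subsingleton (Dual.HD A D d) :=
      ModuleCat.subsingleton_of_isZero (DerivedCategory.isZero_of_isLE D b d (by omega))
    haveI : Subsingleton (Dual.HD A X₃ d) := e.symm.toEquiv.subsingleton
    exact ModuleCat.isZero_of_subsingleton _
  obtain ⟨x, hx, hxk⟩ := exists_kill_id (q.asIdeal.primeCompl ⊔ Submonoid.powers g) X₃ (c + 1) (max b c) (fun d => by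
      by_cases hd : c < d
      · obtain ⟨e⟩ := hiso d hd
        haveI := hfin d
        exact Module.Finite.equiv e
      · haveI : Subsingleton (Dual.HD A X₃ d) :=
          ModuleCat.subsingleton_of_isZero (DerivedCategory.isZero_of_isGE X₃ (c + 1) d (by omega))
        exact Module.Finite.of_finite) fun d hd v => by
    obtain ⟨e⟩ := hiso d (by omega)
    obtain ⟨h, hh, m, hm⟩ := ih (b + 1 - d).toNat (by omega) d (by omega) (by omega) (e.symm v)
    exact ⟨h * g ^ m, Submonoid.mem_sup.2 ⟨h, hh, g ^ m, ⟨m, rfl⟩, rfl⟩,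
      e.symm.injective (by rw [map_smul, hm, map_zero])⟩
  obtain ⟨h', hh', _, ⟨m, rfl⟩, rfl⟩ := Submonoid.mem_sup.1 hx
  let v : M := eM ((hisoZ c le_rfl).some w)
  suffices hv : ∃ h ∉ q.asIdeal, (h * g ^ (m + 1)) • v = 0 by
    obtain ⟨h, hh, h0⟩ := hv
    refine ⟨h, hh, m + 1, (hisoZ c le_rfl).some.injective (eM.injective ?_)⟩
    rw [map_smul, map_smul, map_zero, map_zero]
    exact h0
  have hl : ∀ l : ℕ, ∃ h ∉ q.asIdeal, (h * g ^ (m + 1)) • v ∈ q.asIdeal ^ l • (⊤ : Submodule A M) := by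
    intro l
    let p : M →ₗ[A] M ⧸ (q.asIdeal ^ l • (⊤ : Submodule A M)) := Submodule.mkQ _
    let φ : (Dual.inD A M)⟦-c⟧ ⟶ (Dual.inD A (M ⧸ (q.asIdeal ^ l • (⊤ : Submodule A M))))⟦-c⟧ :=
      (shiftFunctor (Dual.D A) (-c)).map (sI p)
    let V := (Triangle.mk f₁ f₂ f₃).invRotate
    have hx0 : V.mor₁ ≫ ((h' * g ^ m) • φ) = 0 := by
      rw [Linear.comp_smul]
      have h0 := smul_id_map hxk (-1)
      rw [← Category.id_comp V.mor₁, Category.assoc, ← Linear.smul_comp]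
      exact (congrArg (fun t => t ≫ V.mor₁ ≫ φ) h0).trans zero_comp
    obtain ⟨ψ', hψ'⟩ := Triangle.yoneda_exact₂ V (inv_rot_of_distTriang _ hV) _ hx0
    obtain ⟨h₀, hh₀, hk₀⟩ := hA' c hc (M ⧸ (q.asIdeal ^ l • (⊤ : Submodule A M))) ⟨l, fun y hy z => by
      obtain ⟨z, rfl⟩ := Submodule.Quotient.mk_surjective _ z
      rw [← Submodule.Quotient.mk_smul, Submodule.Quotient.mk_eq_zero]
      exact Submodule.smul_mem_smul hy trivial⟩ (π ≫ ψ')
    have h0 : π ≫ ((h₀ * g) • ψ') = 0 := by rw [Linear.comp_smul]; exact hk₀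
    obtain ⟨k', hk'⟩ := Triangle.yoneda_exact₃ _ hU _ h0
    haveI : (Y₁⟦(1 : ℤ)⟧).IsLE (c - 2) := TStructure.t.isLE_shift Y₁ (c - 1) 1 (c - 2) (by omega)
    haveI : ((Dual.inD A (M ⧸ (q.asIdeal ^ l • (⊤ : Submodule A M))))⟦-c⟧).IsGE c := by
      haveI : (Dual.inD A (M ⧸ (q.asIdeal ^ l • (⊤ : Submodule A M)))).IsGE 0 :=
        inferInstanceAs (((DerivedCategory.singleFunctor (ModuleCat.{u} A) 0).obj _).IsGE 0)
      exact TStructure.t.isGE_shift _ 0 (-c) c (by omega)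
    rw [TStructure.t.zero k' (c - 2) c (by omega), comp_zero] at hk'
    refine ⟨h₀ * h', q.asIdeal.primeCompl.mul_mem hh₀ hh', ?_⟩
    have h2 : (h₀ * h' * g ^ (m + 1)) • φ = 0 := by
      rw [show h₀ * h' * g ^ (m + 1) = h₀ * g * (h' * g ^ m) by ring, mul_smul, hψ']
      show (h₀ * g) • (V.mor₂ ≫ ψ') = 0
      rw [← Linear.comp_smul, hk', comp_zero]
    have h3 : (h₀ * h' * g ^ (m + 1)) • ModuleCat.ofHom p = 0 := by
      refine (DerivedCategory.singleFunctor (ModuleCat.{u} A) 0).map_injective ?_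
      rw [Functor.map_smul, Functor.map_zero]
      refine (shiftFunctor (Dual.D A) (-c)).map_injective ?_
      rw [Functor.map_smul, Functor.map_zero]
      exact h2
    have h4 := congrArg (fun t => t.hom v) h3
    exact (Submodule.Quotient.mk_eq_zero _).1 ((map_smul p _ v).trans h4)
  let B := Localization.AtPrime q.asIdeal
  haveI : IsNoetherianRing B := IsLocalization.isNoetherianRing q.asIdeal.primeCompl _ inferInstance
  haveI : Module.Finite B (LocalizedModule q.asIdeal.primeCompl M) :=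
    Module.Finite.of_isLocalizedModule q.asIdeal.primeCompl (LocalizedModule.mkLinearMap _ M)
  let ι := LocalizedModule.mkLinearMap q.asIdeal.primeCompl M
  have hmap : ∀ (l : ℕ) (y : M), y ∈ q.asIdeal ^ l • (⊤ : Submodule A M) →
      ι y ∈ (IsLocalRing.maximalIdeal B) ^ l • (⊤ : Submodule B (LocalizedModule q.asIdeal.primeCompl M)) := by
    intro l y hy
    refine Submodule.smul_induction_on hy (fun r hr z _ => ?_) fun u v hu hv => by rw [map_add]; exact add_mem hu hv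
    rw [map_smul, ← algebraMap_smul B r, ← Localization.AtPrime.map_eq_maximalIdeal, ← Ideal.map_pow]
    exact Submodule.smul_mem_smul (Ideal.mem_map_of_mem _ hr) trivial
  have hz : ι (g ^ (m + 1) • v) = 0 := by
    have hbot := Ideal.iInf_pow_smul_eq_bot_of_isLocalRing (R := B) (M := LocalizedModule q.asIdeal.primeCompl M)
      (IsLocalRing.maximalIdeal B) (IsLocalRing.maximalIdeal.isMaximal B).ne_top
    rw [← Submodule.mem_bot B, ← hbot, Submodule.mem_iInf]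
    intro l
    obtain ⟨h, hh, hmem⟩ := hl l
    have h1 := hmap l _ hmem
    rw [mul_smul, map_smul, ← algebraMap_smul B h] at h1
    exact (Submodule.smul_mem_iff_of_isUnit _ (show IsUnit (algebraMap A B h) from
      IsLocalization.map_units B (⟨h, hh⟩ : q.asIdeal.primeCompl))).1 h1
  obtain ⟨⟨t, ht⟩, htk⟩ := (IsLocalizedModule.eq_zero_iff q.asIdeal.primeCompl ι).1 hz
  exact ⟨t, ht, by rw [mul_smul]; exact htk⟩

end Groth.Agent.GrLib8.HDT
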